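import Cfsg.Agent.Lib.InvNilp.Data
import Mathlib.GroupTheory.SemidirectProduct

/-!
# The complement step: `M` of odd order
-/

set_option autoImplicit false
set_option linter.unusedSectionVars false

namespace Cfsg.Agent.Lib.InvNilp

open Subgroup Cfsg
open scoped commutatorElement Pointwise
open Cfsg.Agent.Lib.Coprime.Action
open Cfsg.Agent.Lib.PointStab.SylowJoin (NN isSylowIn_inf)
open Cfsg.Agent.Lib.Core.CoprimeMap (mem_normalizer_of_forall_conj_mem)

universe u v

variable {G : Type u} [Group G] [Finite G] {A : Type v} [Group A] [Finite A]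

/-- If `M` is an invariant subgroup of odd order, maximal among invariant ones, with a normal
complement `K` of even order, then `K` is a 2-group. -/
theorem solvable_of_odd_complement
    (ftm : ∀ (X : Type (max u v)) [Group X] [Finite X], Odd (Nat.card X) → Group.IsSolvable X)
    (φ : A →* MulAut G) (hcop : (Nat.card A).Coprime (Nat.card G)) (hAo : Odd (Nat.card A))
    (M : Subgroup G) (hMinv : ∀ a : A, ∀ m : G, m ∈ M → φ a m ∈ M)
    (hMmax : ∀ H : Subgroup G, M ≤ H → H ≠ ⊤ → (∀ a : A, ∀ h : G, h ∈ H → φ a h ∈ H) → H = M)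
    (hnil : Group.IsNilpotent M) (hMo : ¬ 2 ∣ Nat.card M)
    (K : Subgroup G) (hKn : K.Normal) (hK : K.IsComplement' M) (hG2 : 2 ∣ Nat.card G)
    (hcopMK : (Nat.card M).Coprime (Nat.card K)) :
    Group.IsSolvable G := by
  have hsup : K ⊔ M = ⊤ := hK.sup_eq_top
  have hdisj : K ⊓ M = ⊥ := hK.disjoint.eq_bot
  have hcardG : Nat.card K * Nat.card M = Nat.card G := hK.card_mul_card
  have hindex : K.index = Nat.card M := hK.symm.index_eq_card
  have hK2 : 2 ∣ Nat.card K := by
    rw [← hcardG] at hG2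
    exact (Nat.prime_two.dvd_mul.1 hG2).resolve_right hMo
  -- `K` is `A`-invariant
  have hKA : ∀ a, ∀ x ∈ K, φ a x ∈ K := by
    intro a x hx
    have h1 : orderOf (φ a x) = orderOf x := (φ a).orderOf_eq x
    have h2 : orderOf (φ a x) ∣ Nat.card K := by
      rw [h1]
      exact Subgroup.orderOf_dvd_natCard K hx
    have h3 : orderOf ((QuotientGroup.mk' K) (φ a x)) ∣ orderOf (φ a x) := orderOf_map_dvd _ _
    have h4 : orderOf ((QuotientGroup.mk' K) (φ a x)) ∣ K.index := by
      rw [Subgroup.index_eq_card]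
      exact orderOf_dvd_natCard _
    rw [hindex] at h4
    have h5 : orderOf ((QuotientGroup.mk' K) (φ a x)) = 1 :=
      Nat.eq_one_of_dvd_coprimes hcopMK.symm (h3.trans h2) h4
    rw [orderOf_eq_one_iff, QuotientGroup.mk'_apply, QuotientGroup.eq_one_iff] at h5
    exact h5
  -- the semidirect product
  have : Finite (G ⋊[φ] A) := Finite.of_equiv _ SemidirectProduct.equivProd.symm
  let ι : G →* (G ⋊[φ] A) := SemidirectProduct.inl
  let τ : A →* (G ⋊[φ] A) := SemidirectProduct.inr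
  have hι : Function.Injective ι := SemidirectProduct.inl_injective
  have hτ : Function.Injective τ := SemidirectProduct.inr_injective
  have hconj : ∀ a x, τ a * ι x * (τ a)⁻¹ = ι (φ a x) := by
    intro a x
    have := SemidirectProduct.inl_aut (φ := φ) a x
    rw [this, map_inv]
  set Kt : Subgroup (G ⋊[φ] A) := K.map ι with hKt
  set Mt : Subgroup (G ⋊[φ] A) := M.map ι with hMt
  set At : Subgroup (G ⋊[φ] A) := τ.range with hAt
  have hAM : At ≤ NN Mt := by
    rintro _ ⟨a, rfl⟩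
    refine mem_normalizer_of_forall_conj_mem ?_
    rintro _ ⟨m, hm, rfl⟩
    exact ⟨φ a m, hMinv a m hm, (hconj a m).symm⟩
  have hMAinf : Mt ⊓ At = ⊥ := by
    rw [eq_bot_iff]
    rintro x hx
    obtain ⟨⟨m, hm, rfl⟩, ⟨a, ha⟩⟩ := Subgroup.mem_inf.1 hx
    have h1 := congrArg (SemidirectProduct.rightHom (φ := φ)) ha
    have h2 : a = 1 := by
      have e1 : SemidirectProduct.rightHom (τ a) = a := SemidirectProduct.rightHom_inr a
      have e2 : SemidirectProduct.rightHom (ι m) = 1 := SemidirectProduct.rightHom_inl m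
      rw [e1] at h1
      show a = 1
      exact h1.trans e2
    rw [h2, map_one] at ha
    rw [Subgroup.mem_bot]
    exact ha.symm
  have hcardMt : Nat.card Mt = Nat.card M := Subgroup.card_map_of_injective hι
  have hcardKt : Nat.card Kt = Nat.card K := Subgroup.card_map_of_injective hι
  have hcardAt : Nat.card At = Nat.card A := by
    rw [hAt, MonoidHom.range_eq_map, Subgroup.card_map_of_injective hτ, Subgroup.card_top]
  have hcardU : Nat.card (Mt ⊔ At : Subgroup (G ⋊[φ] A)) = Nat.card M * Nat.card A := by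
    rw [← card_sup_of_le_normalizer hAM hMAinf, hcardMt, hcardAt]
  have hUo : Odd (Nat.card (Mt ⊔ At : Subgroup (G ⋊[φ] A))) := by
    rw [hcardU]
    exact Nat.odd_mul.2 ⟨Nat.odd_iff.2 (Nat.two_dvd_ne_zero.1 hMo), hAo⟩
  have hUK : (Mt ⊔ At : Subgroup (G ⋊[φ] A)) ≤ NN Kt := by
    refine sup_le ?_ ?_
    · rintro _ ⟨m, hm, rfl⟩
      refine mem_normalizer_of_forall_conj_mem ?_
      rintro _ ⟨k, hk, rfl⟩
      refine ⟨m * k * m⁻¹, hKn.conj_mem k hk m, ?_⟩
      simp [map_mul, map_inv]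
    · rintro _ ⟨a, rfl⟩
      refine mem_normalizer_of_forall_conj_mem ?_
      rintro _ ⟨k, hk, rfl⟩
      exact ⟨φ a k, hKA a k hk, (hconj a k).symm⟩
  have hcopUK : (Nat.card (Mt ⊔ At : Subgroup (G ⋊[φ] A))).Coprime (Nat.card Kt) := by
    rw [hcardU, hcardKt]
    refine Nat.Coprime.mul_left hcopMK ?_
    exact Nat.Coprime.coprime_dvd_right (Subgroup.card_subgroup_dvd_card K) hcop
  obtain ⟨Q, hQ, hUQ⟩ := exists_invariant_sylowIn (p := 2) hUK hcopUK
    (Or.inl (ftm _ hUo))
  -- pull back to `G`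
  set S : Subgroup G := Q.comap ι with hS
  have hSK : S ≤ K := by
    intro x hx
    obtain ⟨k, hk, hke⟩ := hQ.1 hx
    rwa [← hι hke]
  have hSp : IsPGroup 2 S := hQ.2.1.comap_of_injective _ hι
  have hQS : ∀ y ∈ Q, ∃ x ∈ S, ι x = y := by
    intro y hy
    obtain ⟨k, hk, rfl⟩ := hQ.1 hy
    exact ⟨k, hy, rfl⟩
  have hSne : S ≠ ⊥ := by
    intro h0
    have hQ0 : Q = ⊥ := by
      rw [eq_bot_iff]
      intro y hy
      obtain ⟨x, hx, rfl⟩ := hQS y hy
      rw [h0, Subgroup.mem_bot] at hx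
      rw [hx, map_one]
      exact Subgroup.one_mem _
    apply hQ.2.2
    rw [hQ0, Subgroup.relIndex_bot_left, hcardKt]
    exact hK2
  have hSA : ∀ a, ∀ x ∈ S, φ a x ∈ S := by
    intro a x hx
    have h1 : τ a ∈ (Mt ⊔ At : Subgroup (G ⋊[φ] A)) := Subgroup.mem_sup_right ⟨a, rfl⟩
    have h2 := (Subgroup.mem_normalizer_iff.1 (hUQ h1) (ι x)).1 hx
    rw [hconj] at h2
    exact h2
  have hMS : M ≤ NN S := by
    intro m hm
    refine mem_normalizer_of_forall_conj_mem ?_
    intro x hx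
    have h1 : ι m ∈ (Mt ⊔ At : Subgroup (G ⋊[φ] A)) := Subgroup.mem_sup_left ⟨m, hm, rfl⟩
    have h2 := (Subgroup.mem_normalizer_iff.1 (hUQ h1) (ι x)).1 hx
    show ι (m * x * m⁻¹) ∈ Q
    rw [map_mul, map_mul, map_inv]
    exact h2
  have hSM : ¬ S ≤ M := by
    intro h
    apply hSne
    rw [eq_bot_iff, ← hdisj]
    exact le_inf hSK h
  have hTA : ∀ a : A, ∀ h : G, h ∈ S ⊔ M → φ a h ∈ S ⊔ M := by
    intro a h hh
    obtain ⟨s, hs, m, hm, rfl⟩ := exists_mul_of_mem_sup hMS hh
    rw [map_mul]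
    exact Subgroup.mul_mem _ (Subgroup.mem_sup_left (hSA a s hs))
      (Subgroup.mem_sup_right (hMinv a m hm))
  have htop : S ⊔ M = ⊤ := by
    by_contra hne
    have h1 := hMmax _ le_sup_right hne hTA
    exact hSM (h1 ▸ le_sup_left)
  have hKS : K ≤ S := by
    intro k hk
    have hkt : k ∈ S ⊔ M := htop ▸ mem_top k
    obtain ⟨s, hs, m, hm, rfl⟩ := exists_mul_of_mem_sup hMS hkt
    have hmK : m ∈ K := by
      have : m = s⁻¹ * (s * m) := by group
      rw [this]
      exact K.mul_mem (K.inv_mem (hSK hs)) hk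
    have hm1 : m ∈ K ⊓ M := ⟨hmK, hm⟩
    rw [hdisj, mem_bot] at hm1
    rw [hm1, mul_one]
    exact hs
  have hKp : IsPGroup 2 K := hSp.to_le hKS
  have : Group.IsNilpotent K := hKp.isNilpotent
  have : Group.IsSolvable K := inferInstance
  have : Group.IsSolvable M := inferInstance
  have : Group.IsSolvable (G ⧸ K) := by
    let f : M →* G ⧸ K := (QuotientGroup.mk' K).comp M.subtype
    refine Group.isSolvable_of_surjective (f := f) ?_
    intro x
    obtain ⟨g, rfl⟩ := QuotientGroup.mk'_surjective K x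
    have hg : g ∈ K ⊔ M := hsup ▸ mem_top g
    obtain ⟨k, hk, m, hm, rfl⟩ := Subgroup.mem_sup_of_normal_left.1 hg
    refine ⟨⟨m, hm⟩, ?_⟩
    show (QuotientGroup.mk' K) m = (QuotientGroup.mk' K) (k * m)
    have hk1 : (QuotientGroup.mk' K) k = 1 := (QuotientGroup.eq_one_iff k).2 hk
    rw [map_mul, hk1, one_mul]
  exact Group.isSolvable_of_ker_le_range K.subtype (QuotientGroup.mk' K) (by
    intro x hx
    rw [MonoidHom.mem_ker, QuotientGroup.mk'_apply, QuotientGroup.eq_one_iff] at hx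
    exact ⟨⟨x, hx⟩, rfl⟩)

end Cfsg.Agent.Lib.InvNilp
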