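import Cfsg.Agent.Lib.InvNilp.TwoComp

/-!
# Sylow data of a core-free maximal invariant nilpotent subgroup
-/

set_option autoImplicit false
set_option linter.unusedSectionVars false

namespace Cfsg.Agent.Lib.InvNilp

open Subgroup Cfsg
open scoped commutatorElement Pointwise
open Cfsg.Agent.Lib.Coprime.Action Cfsg.Agent.Lib.SolvStruct.NilpMax
open Cfsg.Agent.Lib.Transfer.Basic Cfsg.Agent.Lib.Transfer.Frobenius
open Cfsg.Agent.Lib.PointStab.SylowJoin (NN isSylowIn_inf)
open Cfsg.Agent.Lib.Core.CoprimeMap (mem_normalizer_of_forall_conj_mem)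

universe u v

variable {G : Type u} [Group G] [Finite G] {A : Type v} [Group A] [Finite A]

/-- The data at a prime dividing the order of a core-free maximal invariant nilpotent subgroup. -/
theorem exists_inv_sylow_data (φ : A →* MulAut G) (M : Subgroup G)
    (hMinv : ∀ a : A, ∀ m : G, m ∈ M → φ a m ∈ M)
    (hMmax : ∀ H : Subgroup G, M ≤ H → H ≠ ⊤ → (∀ a : A, ∀ h : G, h ∈ H → φ a h ∈ H) → H = M)
    (hnil : Group.IsNilpotent M)
    (hcore : ∀ N : Subgroup G, N.Normal → (∀ a : A, ∀ x ∈ N, φ a x ∈ N) → N ≤ M → N = ⊥)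
    {p : ℕ} [hpf : Fact p.Prime] (hpM : p ∣ Nat.card M) :
    ∃ P : Sylow p G, (P : Subgroup G) ≤ M ∧
      (∀ a, ∀ x ∈ (P : Subgroup G), φ a x ∈ (P : Subgroup G)) ∧
      (∀ x ∈ M, ∀ k : ℕ, x ^ p ^ k = 1 → x ∈ (P : Subgroup G)) ∧
      (∀ x ∈ M, (orderOf x).Coprime p → ∀ t ∈ (P : Subgroup G), x * t = t * x) ∧
      (∀ X : Subgroup G, X ≤ P → X ≠ ⊥ → (P : Subgroup G) ≤ NN X →
        (∀ a, ∀ y ∈ X, φ a y ∈ X) → NN X = M) := by
  obtain ⟨S⟩ : Nonempty (Sylow p M) := inferInstance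
  set T : Subgroup G := (S : Subgroup M).map M.subtype with hT
  have hTM : T ≤ M := by
    rintro _ ⟨x, -, rfl⟩
    exact x.2
  have hTp : IsPGroup p T := S.isPGroup'.map _
  have hTne : T ≠ ⊥ := by
    intro h
    have : (S : Subgroup M) = ⊥ := by
      rw [hT] at h
      exact (Subgroup.map_eq_bot_iff_of_injective _ M.subtype_injective).1 h
    exact S.ne_bot_of_dvd_card hpM this
  have hpel : ∀ x ∈ M, ∀ k : ℕ, x ^ p ^ k = 1 → x ∈ T := by
    intro x hx k hk
    have : (⟨x, hx⟩ : M) ∈ (S : Subgroup M) :=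
      mem_sylow_of_nilpotent hnil S (k := k) (Subtype.ext (by simpa using hk))
    exact ⟨⟨x, hx⟩, this, rfl⟩
  have hcomm : ∀ x ∈ M, (orderOf x).Coprime p → ∀ t ∈ T, x * t = t * x := by
    rintro x hx hco _ ⟨t, ht, rfl⟩
    obtain ⟨j, hj⟩ := S.isPGroup' ⟨t, ht⟩
    have htj : t ^ p ^ j = 1 := congrArg Subtype.val hj
    have hco' : (orderOf (⟨x, hx⟩ : M)).Coprime p := by rwa [Subgroup.orderOf_mk]
    have := commute_of_nilpotent hnil htj hco'
    exact (congrArg Subtype.val this).symm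
  have hTA : ∀ a, ∀ x ∈ T, φ a x ∈ T := by
    intro a x hx
    obtain ⟨k, hk⟩ := hTp ⟨x, hx⟩
    have hk' : x ^ p ^ k = 1 := congrArg Subtype.val hk
    refine hpel _ (hMinv a x (hTM hx)) k ?_
    rw [← map_pow, hk', map_one]
  -- normalizers
  have hnorm : ∀ X : Subgroup G, X ≤ T → X ≠ ⊥ → T ≤ NN X → (∀ a, ∀ y ∈ X, φ a y ∈ X) →
      NN X = M := by
    intro X hXT hX hTX hXA
    have hMle : M ≤ NN X := by
      intro m hm
      obtain ⟨a, b, hab, hc, ⟨k, hk⟩, hb, ha', hb'⟩ :=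
        Cfsg.Agent.Lib.Core.Residual.exists_pPart_pPrimePart p m (isOfFinOrder_of_finite m)
      have haM : a ∈ M := (Subgroup.zpowers_le.2 hm) ha'
      have hbM : b ∈ M := (Subgroup.zpowers_le.2 hm) hb'
      rw [← hab]
      refine Subgroup.mul_mem _ (hTX (hpel a haM k hk)) ?_
      refine mem_normalizer_of_forall_conj_mem ?_
      intro h hh
      have e : b * h * b⁻¹ = h := by rw [hcomm b hbM hb h (hXT hh)]; group
      rw [e]
      exact hh
    have hNA : ∀ a : A, ∀ g : G, g ∈ NN X → φ a g ∈ NN X := by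
      intro a g hg
      refine mem_normalizer_of_forall_conj_mem ?_
      intro y hy
      have h1 : φ a (φ a⁻¹ y) = y := by
        rw [← MulAut.mul_apply, ← map_mul]; simp
      have hy' : φ a⁻¹ y ∈ X := hXA a⁻¹ y hy
      obtain ⟨y', hy'def⟩ : ∃ y', y' = φ a⁻¹ y := ⟨_, rfl⟩
      rw [← hy'def] at hy' h1
      have e : φ a g * y * (φ a g)⁻¹ = φ a (g * y' * g⁻¹) := by
        rw [map_mul, map_mul, map_inv, h1]
      rw [e]
      exact hXA a _ ((Subgroup.mem_normalizer_iff.1 hg y').1 hy')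
    by_cases htop : NN X = ⊤
    · have hXn : X.Normal := Subgroup.normalizer_eq_top_iff.1 htop
      exact absurd (hcore X hXn hXA (hXT.trans hTM)) hX
    · exact hMmax _ hMle htop hNA
  -- `T` is Sylow
  obtain ⟨R, hR⟩ := hTp.exists_le_sylow
  have hTR : T = R := by
    by_contra hne
    have hlt : T < R := lt_of_le_of_ne hR hne
    obtain ⟨x, hxR, hxT, hxN⟩ := exists_mem_normalizer_of_lt R.isPGroup' hlt
    have hxM : x ∈ M := by
      rw [← hnorm T le_rfl hTne Subgroup.le_normalizer hTA]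
      exact hxN
    obtain ⟨k, hk⟩ := R.isPGroup' ⟨x, hxR⟩
    exact hxT (hpel x hxM k (congrArg Subtype.val hk))
  exact ⟨R, hTR ▸ hTM, hTR ▸ hTA, hTR ▸ hpel, hTR ▸ hcomm, hTR ▸ hnorm⟩

/-- Thompson's criterion applied to a maximal invariant nilpotent subgroup. -/
theorem hasNormalPComplement_of_odd_inv (φ : A →* MulAut G) {p : ℕ} [hpf : Fact p.Prime] (hp : p ≠ 2)
    (M : Subgroup G) (hnil : Group.IsNilpotent M)
    (P : Sylow p G) (hP1 : (P : Subgroup G) ≠ ⊥)
    (hPA : ∀ a, ∀ x ∈ (P : Subgroup G), φ a x ∈ (P : Subgroup G))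
    (hnorm : ∀ X : Subgroup G, X ≤ P → X ≠ ⊥ → (P : Subgroup G) ≤ NN X →
        (∀ a, ∀ y ∈ X, φ a y ∈ X) → NN X = M) : HasNormalPComplement p G := by
  have hM : HasNormalPComplement p M :=
    Cfsg.Agent.Lib.FPFThompson.Main.hasNormalPComplement_of_nilpotent p hnil
  have hPmap : ∀ a : A, (P : Subgroup G).map (φ a).toMonoidHom = P := by
    intro a
    apply Subgroup.eq_of_le_of_card_ge
    · rintro _ ⟨x, hx, rfl⟩
      exact hPA a x hx
    · rw [Subgroup.card_map_of_injective (φ a).injective]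
  refine Cfsg.Agent.Lib.PLocal.ThompsonComplement.pc_of_thompson hp P ?_ ?_
  · have hJ := Cfsg.Agent.Lib.PLocal.ThompsonFunctor.pFunctor_jOf (e := p) (p := p) (Or.inr rfl)
    have h1 := hnorm (Cfsg.Agent.Lib.PLocal.Thompson.jOf p (P : Subgroup G)) (hJ.le _)
      (hJ.ne_bot _ P.isPGroup' hP1) (Subgroup.le_normalizer.trans (hJ.normalizer_le _ P.isPGroup'))
      (by
        intro a y hy
        have hker : (P : Subgroup G) ⊓ (φ a).toMonoidHom.ker = ⊥ := by
          rw [(MonoidHom.ker_eq_bot_iff _).2 (φ a).injective, inf_bot_eq]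
        have h2 := hJ.map_eq (φ a).toMonoidHom (P : Subgroup G) P.isPGroup' hker
        rw [hPmap a] at h2
        rw [← h2]
        exact ⟨y, hy, rfl⟩)
    have h1' : normalizer ((Cfsg.Agent.Lib.PLocal.Thompson.jOf p (P : Subgroup G) : Subgroup G) : Set G) = M := h1
    rw [h1']
    exact hM
  · have hC := Cfsg.Agent.Lib.PLocal.ThompsonFunctor.pFunctor_center (p := p)
    have hle : (P : Subgroup G) ⊓ centralizer ((P : Subgroup G) : Set G) ≤ P := inf_le_left
    have hne := hC.ne_bot (P : Subgroup G) P.isPGroup' hP1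
    have h1 := hnorm _ hle hne (by
      intro u hu
      refine mem_normalizer_of_forall_conj_mem ?_
      intro x hx
      have e : u * x * u⁻¹ = x := by
        have := Subgroup.mem_centralizer_iff.1 hx.2 u hu
        rw [this]; group
      rw [e]
      exact hx) (by
      intro a y hy
      obtain ⟨hy1, hy2⟩ := Subgroup.mem_inf.1 hy
      refine Subgroup.mem_inf.2 ⟨hPA a y hy1, Subgroup.mem_centralizer_iff.2 ?_⟩
      intro c hc
      have hc' : φ a⁻¹ c ∈ (P : Subgroup G) := hPA a⁻¹ c hc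
      have h3 : φ a (φ a⁻¹ c) = c := by
        rw [← MulAut.mul_apply, ← map_mul]; simp
      obtain ⟨c', hc'def⟩ : ∃ c', c' = φ a⁻¹ c := ⟨_, rfl⟩
      rw [← hc'def] at hc' h3
      have h2 := congrArg (φ a) (Subgroup.mem_centralizer_iff.1 hy2 c' hc')
      rwa [map_mul, map_mul, h3] at h2)
    have hle2 : centralizer (((P : Subgroup G) ⊓ centralizer ((P : Subgroup G) : Set G) :
        Subgroup G) : Set G) ≤ M := by
      rw [← h1]
      intro c hc
      refine mem_normalizer_of_forall_conj_mem ?_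
      intro x hx
      have e : c * x * c⁻¹ = x := (mem_centralizer_iff' (D := _)).1 hc x hx
      rw [e]
      exact hx
    exact hasNormalPComplement_of_injective (Subgroup.inclusion hle2)
      (Subgroup.inclusion_injective hle2) hM

end Cfsg.Agent.Lib.InvNilp
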