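import Cfsg.Agent.Lib.SolvStruct.NilpMax
import Cfsg.Agent.Lib.PointStab.SylowJoin
import Cfsg.Agent.Lib.InvNilp.Color
import Cfsg.Agent.Lib.InvNilp.Frob

/-!
# Local analysis of a largest subgroup on which some odd element acts nontrivially

Setting: `P` is a Sylow 2-subgroup of class at most two and `D ≤ P` is a 2-subgroup, of largest
order, whose normalizer `H` contains an element of odd order acting nontrivially.
-/

set_option autoImplicit false
set_option linter.unusedSectionVars false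

namespace Cfsg.Agent.Lib.InvNilp

open Subgroup Cfsg
open scoped commutatorElement Pointwise
open Cfsg.Agent.Lib.Coprime.Action Cfsg.Agent.Lib.SolvStruct.NilpMax
open Cfsg.Agent.Lib.Coprime.SchurZassenhaus
open Cfsg.Agent.Lib.PointStab.SylowJoin (NN isSylowIn_inf)
open Cfsg.Agent.Lib.Core.CoprimeMap (mem_normalizer_of_forall_conj_mem)

universe u

variable {G : Type u} [Group G] [Finite G]

/-- The central involutions (and the identity) of `P`. -/
def Zo (P : Subgroup G) : Subgroup G where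
  carrier := {z | z ∈ P ∧ (∀ c ∈ P, z * c = c * z) ∧ z * z = 1}
  mul_mem' := by
    rintro a b ⟨ha, ha', ha''⟩ ⟨hb, hb', hb''⟩
    refine ⟨P.mul_mem ha hb, ?_, ?_⟩
    · intro c hc
      rw [mul_assoc, hb' c hc, ← mul_assoc, ha' c hc, mul_assoc]
    · calc a * b * (a * b) = a * (b * a) * b := by group
        _ = a * (a * b) * b := by rw [ha' b hb]
        _ = (a * a) * (b * b) := by group
        _ = 1 := by rw [ha'', hb'', one_mul]
  one_mem' := ⟨P.one_mem, by simp, by simp⟩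
  inv_mem' := by
    rintro a ⟨ha, ha', ha''⟩
    have e : a⁻¹ = a := inv_eq_of_mul_eq_one_left ha''
    rw [Set.mem_setOf_eq, e]
    exact ⟨ha, ha', ha''⟩

theorem mem_Zo {P : Subgroup G} {z : G} :
    z ∈ Zo P ↔ z ∈ P ∧ (∀ c ∈ P, z * c = c * z) ∧ z * z = 1 := Iff.rfl

/-- The Sylow-conjugacy (Frattini) step, with the conjugating element in a prescribed subgroup. -/
theorem frattini_dec {R L E : Subgroup G} (hS : IsSylowIn 2 R L)
    (hdec : ∀ l ∈ L, ∃ e ∈ E, ∃ r ∈ R, l = e * r) {y : G} (hy : y ∈ NN L) :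
    ∃ e ∈ E, e * y ∈ NN R := by
  obtain ⟨k, hk, hk'⟩ := hS.exists_conj (hS.conj_of_mem_normalizer hy)
  obtain ⟨e, he, r, hr, rfl⟩ := hdec k hk
  refine ⟨e⁻¹, E.inv_mem he, mem_normalizer_of_conj_smul_eq ?_⟩
  rw [conj_mul_smul, ← hk', conj_mul_smul, conj_smul_eq_self_of_mem hr, ← conj_mul_smul]
  simp

/-- An element of odd order of `H` which normalizes a "good" `R` modulo `E` lies in `E`. -/
theorem odd_mem_of_good {H E R : Subgroup G} (hEH : E ≤ H)
    (hEn : ∀ h ∈ H, ∀ e ∈ E, h * e * h⁻¹ ∈ E)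
    (hgood : ∀ g ∈ NN R, g ∈ H → (orderOf g).Coprime 2 → g ∈ E)
    {y e : G} (hy : y ∈ H) (hyo : (orderOf y).Coprime 2) (he : e ∈ E) (hn : e * y ∈ NN R) :
    y ∈ E := by
  obtain ⟨a, b, hab, hc, ⟨j, hj⟩, hb, ha', hb'⟩ :=
    Cfsg.Agent.Lib.Core.Residual.exists_pPart_pPrimePart 2 (e * y) (isOfFinOrder_of_finite _)
  have hnH : e * y ∈ H := H.mul_mem (hEH he) hy
  have haH : a ∈ H := (Subgroup.zpowers_le.2 hnH) ha'
  have hbH : b ∈ H := (Subgroup.zpowers_le.2 hnH) hb'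
  have hbN : b ∈ NN R := (Subgroup.zpowers_le.2 hn) hb'
  have hbE : b ∈ E := hgood b hbN hbH hb
  have hya : y * a⁻¹ ∈ E := by
    have e1 : y * a⁻¹ = e⁻¹ * (a * b * a⁻¹) := by
      have : y = e⁻¹ * (a * b) := by rw [hab]; group
      rw [this]; group
    rw [e1]
    exact E.mul_mem (E.inv_mem he) (hEn a haH b hbE)
  have hpow : ∀ i : ℕ, y ^ i * (a ^ i)⁻¹ ∈ E := by
    intro i
    induction i with
    | zero => simp [E.one_mem]
    | succ i ih =>
      have e1 : y ^ (i + 1) * (a ^ (i + 1))⁻¹ = (y * (y ^ i * (a ^ i)⁻¹) * y⁻¹) * (y * a⁻¹) := by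
        rw [pow_succ', pow_succ]; group
      rw [e1]
      exact E.mul_mem (hEn y hy _ ih) hya
  have hk := hpow (orderOf y)
  rw [pow_orderOf_eq_one, one_mul] at hk
  have hk' : a ^ orderOf y ∈ E := by simpa using E.inv_mem hk
  have hco : (orderOf a).Coprime (orderOf y) := by
    have h1 : orderOf a ∣ 2 ^ j := orderOf_dvd_of_pow_eq_one hj
    exact Nat.Coprime.coprime_dvd_left h1 (Nat.Coprime.pow_left _ hyo.symm)
  obtain ⟨s, hs⟩ := exists_pow_eq_self_of_coprime hco.symm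
  have haE : a ∈ E := by
    rw [← hs]
    exact E.pow_mem hk' s
  have e2 : y = (y * a⁻¹) * a := by group
  rw [e2]
  exact E.mul_mem hya haE

theorem conj_mem_inf_centralizer {H X : Subgroup G} (hX : ∀ h ∈ H, ∀ v ∈ X, h * v * h⁻¹ ∈ X) :
    ∀ h ∈ H, ∀ e ∈ H ⊓ centralizer (X : Set G), h * e * h⁻¹ ∈ H ⊓ centralizer (X : Set G) := by
  intro h hh e he0
  obtain ⟨he, he'⟩ := Subgroup.mem_inf.1 he0
  refine Subgroup.mem_inf.2 ⟨H.mul_mem (H.mul_mem hh he) (H.inv_mem hh), ?_⟩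
  rw [Subgroup.mem_centralizer_iff]
  intro v hv
  have h1 : h⁻¹ * v * h ∈ X := by
    have := hX h⁻¹ (H.inv_mem hh) v hv
    simpa using this
  have h2 := Subgroup.mem_centralizer_iff.1 he' _ h1
  calc v * (h * e * h⁻¹) = h * ((h⁻¹ * v * h) * e) * h⁻¹ := by group
    _ = h * (e * (h⁻¹ * v * h)) * h⁻¹ := by rw [h2]
    _ = h * e * h⁻¹ * v := by group

theorem isSylowIn_top (P : Sylow 2 G) : IsSylowIn 2 (P : Subgroup G) ⊤ :=
  ⟨le_top, P.isPGroup', by rw [Subgroup.relIndex_top_right]; exact P.not_dvd_index⟩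

theorem isSylowIn_of_le (P : Sylow 2 G) {H : Subgroup G} (hPH : (P : Subgroup G) ≤ H) :
    IsSylowIn 2 (P : Subgroup G) H := by
  refine ⟨hPH, P.isPGroup', ?_⟩
  intro h
  apply P.not_dvd_index
  rw [← Subgroup.relIndex_mul_index hPH]
  exact Dvd.dvd.mul_right h _

/-- The hypotheses of the local analysis. -/
structure LocalHyp (P : Sylow 2 G) (M D : Subgroup G) : Prop where
  hcl : ∀ a ∈ (P : Subgroup G), ∀ b ∈ (P : Subgroup G), ∀ c ∈ (P : Subgroup G),
    ⁅a, b⁆ * c = c * ⁅a, b⁆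
  hdec : ∀ m ∈ M, ∃ a ∈ (P : Subgroup G), ∃ b ∈ M, (orderOf b).Coprime 2 ∧ m = a * b
  hcomm : ∀ x ∈ M, (orderOf x).Coprime 2 → ∀ t ∈ (P : Subgroup G), x * t = t * x
  hPM : (P : Subgroup G) ≤ M
  hNP : NN (P : Subgroup G) ≤ M
  hNZ : NN (Zo (P : Subgroup G)) ≤ M
  hbad : Bad 2 D
  hmax : ∀ D' : Subgroup G, Bad 2 D' → Nat.card D' ≤ Nat.card D
  hDP : D ≤ P

variable {P : Sylow 2 G} {M D : Subgroup G}

namespace LocalHyp

variable (hL : LocalHyp P M D)
include hL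

theorem cen_le : (P : Subgroup G) ⊓ centralizer ((P : Subgroup G) : Set G) ≤ D := by
  refine le_of_max_bad hL.hbad hL.hmax (P.isPGroup'.to_le inf_le_left) ?_
  intro y hy
  exact Subgroup.centralizer_le (SetLike.coe_subset_coe.2 hL.hDP) hy.2

theorem comm_mem_cen {u x : G} (hu : u ∈ (P : Subgroup G)) (hx : x ∈ (P : Subgroup G)) :
    ⁅u, x⁆ ∈ (P : Subgroup G) ⊓ centralizer ((P : Subgroup G) : Set G) := by
  refine ⟨?_, Subgroup.mem_centralizer_iff.2 fun c hc => (hL.hcl u hu x hx c hc).symm⟩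
  rw [commutatorElement_def]
  exact (P : Subgroup G).mul_mem ((P : Subgroup G).mul_mem ((P : Subgroup G).mul_mem hu hx)
    ((P : Subgroup G).inv_mem hu)) ((P : Subgroup G).inv_mem hx)

theorem le_NN : (P : Subgroup G) ≤ NN D := by
  intro u hu
  refine mem_normalizer_of_forall_conj_mem ?_
  intro x hx
  have h1 : ⁅u, x⁆ ∈ D := hL.cen_le (hL.comm_mem_cen hu (hL.hDP hx))
  have e : u * x * u⁻¹ = ⁅u, x⁆ * x := by
    rw [commutatorElement_def]; group
  rw [e]
  exact D.mul_mem h1 hx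

theorem odd_mem_centralizer {b : G} (hb : b ∈ M) (hbo : (orderOf b).Coprime 2) :
    b ∈ centralizer (D : Set G) := by
  rw [Subgroup.mem_centralizer_iff]
  intro d hd
  exact (hL.hcomm b hb hbo d (hL.hDP hd)).symm

theorem M_le_NN : M ≤ NN D := by
  intro m hm
  obtain ⟨a, ha, b, hb, hbo, rfl⟩ := hL.hdec m hm
  refine (NN D).mul_mem (hL.le_NN ha) ?_
  refine mem_normalizer_of_forall_conj_mem ?_
  intro d hd
  have := Subgroup.mem_centralizer_iff.1 (hL.odd_mem_centralizer hb hbo) d hd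
  rw [← this]
  simpa using hd

end LocalHyp

/-- The facts about the normal closure `B` of `Z(P)` in `H = N(D)`. -/
structure BData (P : Sylow 2 G) (D B : Subgroup G) : Prop where
  le_D : B ≤ D
  comm : ∀ v ∈ B, ∀ d ∈ D, v * d = d * v
  conj : ∀ h ∈ NN D, ∀ v ∈ B, h * v * h⁻¹ ∈ B
  cen : (P : Subgroup G) ⊓ centralizer ((P : Subgroup G) : Set G) ≤ B
  comm_mem : ∀ h ∈ NN D, ∀ d ∈ D, h * d * h⁻¹ * d⁻¹ ∈ B

theorem LocalHyp.exists_BData (hL : LocalHyp P M D) : ∃ B : Subgroup G, BData P D B := by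
  set Z : Subgroup G := (P : Subgroup G) ⊓ centralizer ((P : Subgroup G) : Set G) with hZ
  set B : Subgroup G := closure {g | ∃ h ∈ NN D, ∃ z ∈ Z, g = h * z * h⁻¹} with hB
  have hBD : B ≤ D := by
    rw [hB, Subgroup.closure_le]
    rintro _ ⟨h, hh, z, hz, rfl⟩
    exact (Subgroup.mem_normalizer_iff.1 hh z).1 (hL.cen_le hz)
  have hBc : B ≤ centralizer (D : Set G) := by
    rw [hB, Subgroup.closure_le]
    rintro _ ⟨h, hh, z, hz, rfl⟩
    rw [SetLike.mem_coe, Subgroup.mem_centralizer_iff]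
    intro d hd
    have h1 : h⁻¹ * d * h ∈ D := by
      have := (Subgroup.mem_normalizer_iff.1 ((NN D).inv_mem hh) d).1 hd
      simpa using this
    have h2 := Subgroup.mem_centralizer_iff.1 hz.2 _ (hL.hDP h1)
    calc d * (h * z * h⁻¹) = h * ((h⁻¹ * d * h) * z) * h⁻¹ := by group
      _ = h * (z * (h⁻¹ * d * h)) * h⁻¹ := by rw [h2]
      _ = h * z * h⁻¹ * d := by group
  have hBconj : ∀ h ∈ NN D, ∀ v ∈ B, h * v * h⁻¹ ∈ B := by
    intro h hh v hv
    have hle : B ≤ B.comap (MulAut.conj h).toMonoidHom := by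
      rw [hB, Subgroup.closure_le]
      rintro _ ⟨k, hk, z, hz, rfl⟩
      apply Subgroup.subset_closure
      refine ⟨h * k, (NN D).mul_mem hh hk, z, hz, ?_⟩
      simp only [MulEquiv.coe_toMonoidHom, MulAut.conj_apply]
      group
    have := hle hv
    simpa using this
  have hZB : Z ≤ B := by
    intro z hz
    apply Subgroup.subset_closure
    exact ⟨1, (NN D).one_mem, z, hz, by simp⟩
  have hBcomm : ∀ v ∈ B, ∀ d ∈ D, v * d = d * v := fun v hv d hd =>
    (Subgroup.mem_centralizer_iff.1 (hBc hv) d hd).symm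
  refine ⟨B, hBD, hBcomm, hBconj, hZB, ?_⟩
  -- the subgroup of elements acting trivially on `D/B`
  let L : Subgroup G :=
    { carrier := {h | h ∈ NN D ∧ ∀ d ∈ D, h * d * h⁻¹ * d⁻¹ ∈ B}
      mul_mem' := by
        rintro h₁ h₂ ⟨hh₁, hd₁⟩ ⟨hh₂, hd₂⟩
        refine ⟨(NN D).mul_mem hh₁ hh₂, fun d hd => ?_⟩
        have e : h₁ * h₂ * d * (h₁ * h₂)⁻¹ * d⁻¹ =
            (h₁ * (h₂ * d * h₂⁻¹ * d⁻¹) * h₁⁻¹) * (h₁ * d * h₁⁻¹ * d⁻¹) := by group
        rw [e]
        exact B.mul_mem (hBconj h₁ hh₁ _ (hd₂ d hd)) (hd₁ d hd)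
      one_mem' := ⟨(NN D).one_mem, fun d _ => by simp [B.one_mem]⟩
      inv_mem' := by
        rintro h ⟨hh, hd⟩
        refine ⟨(NN D).inv_mem hh, fun d hd' => ?_⟩
        have h1 : h⁻¹ * d * h ∈ D := by
          have := (Subgroup.mem_normalizer_iff.1 ((NN D).inv_mem hh) d).1 hd'
          simpa using this
        have h2 := hd _ h1
        have e : h⁻¹ * d * h⁻¹⁻¹ * d⁻¹ = (h * (h⁻¹ * d * h) * h⁻¹ * (h⁻¹ * d * h)⁻¹)⁻¹ := by group
        rw [e]
        exact B.inv_mem h2 }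
  have hLN : L ≤ NN D := fun x hx => hx.1
  have hLn : ∀ k ∈ NN D, ∀ l ∈ L, k * l * k⁻¹ ∈ L := by
    rintro k hk l ⟨hl, hl'⟩
    refine ⟨(NN D).mul_mem ((NN D).mul_mem hk hl) ((NN D).inv_mem hk), fun d hd => ?_⟩
    have h1 : k⁻¹ * d * k ∈ D := by
      have := (Subgroup.mem_normalizer_iff.1 ((NN D).inv_mem hk) d).1 hd
      simpa using this
    have e : k * l * k⁻¹ * d * (k * l * k⁻¹)⁻¹ * d⁻¹ =
        k * (l * (k⁻¹ * d * k) * l⁻¹ * (k⁻¹ * d * k)⁻¹) * k⁻¹ := by group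
    rw [e]
    exact hBconj k hk _ (hl' _ h1)
  have hPL : (P : Subgroup G) ≤ L := by
    intro p hp
    refine ⟨hL.le_NN hp, fun d hd => ?_⟩
    have h1 := hZB (hL.comm_mem_cen hp (hL.hDP hd))
    rwa [commutatorElement_def] at h1
  have hML : M ≤ L := by
    intro m hm
    obtain ⟨a, ha, b, hb, hbo, rfl⟩ := hL.hdec m hm
    refine L.mul_mem (hPL ha) ⟨hL.M_le_NN hb, fun d hd => ?_⟩
    have := Subgroup.mem_centralizer_iff.1 (hL.odd_mem_centralizer hb hbo) d hd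
    rw [← this]
    simp [B.one_mem]
  intro h hh d hd
  have hhL : h ∈ NN L := by
    refine mem_normalizer_of_forall_conj_mem ?_
    intro l hl
    exact hLn h hh l hl
  obtain ⟨e, he, hen⟩ := frattini_dec (E := L) (isSylowIn_of_le P hPL)
    (fun l hl => ⟨l, hl, 1, one_mem _, by simp⟩) hhL
  have h1 : e * h ∈ L := hML (hL.hNP hen)
  have h2 : h ∈ L := by
    have : h = e⁻¹ * (e * h) := by group
    rw [this]
    exact L.mul_mem (L.inv_mem he) h1
  exact h2.2 d hd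

end Cfsg.Agent.Lib.InvNilp
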