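import Cfsg.Agent.Lib.InvNilp.Local

/-!
# Local analysis, continued: the elementary abelian part of `B`
-/

set_option autoImplicit false
set_option linter.unusedSectionVars false

namespace Cfsg.Agent.Lib.InvNilp

open Subgroup Cfsg
open scoped commutatorElement Pointwise
open Cfsg.Agent.Lib.Coprime.Action Cfsg.Agent.Lib.SolvStruct.NilpMax
open Cfsg.Agent.Lib.Coprime.SchurZassenhaus
open Cfsg.Agent.Lib.PointStab.SylowJoin (NN isSylowIn_inf)
open Cfsg.Agent.Lib.Core.CoprimeMap (mem_normalizer_of_forall_conj_mem)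

universe u

variable {G : Type u} [Group G] [Finite G] {P : Sylow 2 G} {M D B V : Subgroup G}

theorem BData.exists_V (hB : BData P D B) : ∃ V : Subgroup G, ∀ x, x ∈ V ↔ x ∈ B ∧ x * x = 1 := by
  refine ⟨{ carrier := {x | x ∈ B ∧ x * x = 1}
            mul_mem' := ?_
            one_mem' := ⟨B.one_mem, by simp⟩
            inv_mem' := ?_ }, fun x => Iff.rfl⟩
  · rintro a b ⟨ha, ha'⟩ ⟨hb, hb'⟩
    refine ⟨B.mul_mem ha hb, ?_⟩
    calc a * b * (a * b) = a * (b * a) * b := by group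
      _ = a * (a * b) * b := by rw [hB.comm b hb a (hB.le_D ha)]
      _ = (a * a) * (b * b) := by group
      _ = 1 := by rw [ha', hb', one_mul]
  · rintro a ⟨ha, ha'⟩
    have e : a⁻¹ = a := inv_eq_of_mul_eq_one_left ha'
    rw [Set.mem_setOf_eq, e]
    exact ⟨ha, ha'⟩

/-- The facts about `V = Ω₁(B)`. -/
structure VData (P : Sylow 2 G) (D B V : Subgroup G) : Prop where
  mem : ∀ x, x ∈ V ↔ x ∈ B ∧ x * x = 1
  le_B : V ≤ B
  le_D : V ≤ D
  comm : ∀ v ∈ V, ∀ d ∈ D, v * d = d * v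
  conj : ∀ h ∈ NN D, ∀ v ∈ V, h * v * h⁻¹ ∈ V
  sq : ∀ v ∈ V, v * v = 1
  Zo_le : Zo (P : Subgroup G) ≤ V

theorem BData.vData (hB : BData P D B) (hV : ∀ x, x ∈ V ↔ x ∈ B ∧ x * x = 1) :
    VData P D B V := by
  have hVB : V ≤ B := fun x hx => ((hV x).1 hx).1
  refine ⟨hV, hVB, hVB.trans hB.le_D, fun v hv d hd => hB.comm v (hVB hv) d hd, ?_,
    fun v hv => ((hV v).1 hv).2, ?_⟩
  · intro h hh v hv
    obtain ⟨hvB, hv2⟩ := (hV v).1 hv
    refine (hV _).2 ⟨hB.conj h hh v hvB, ?_⟩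
    calc h * v * h⁻¹ * (h * v * h⁻¹) = h * (v * v) * h⁻¹ := by group
      _ = 1 := by rw [hv2]; group
  · intro z hz
    obtain ⟨hz1, hz2, hz3⟩ := mem_Zo.1 hz
    refine (hV z).2 ⟨hB.cen (Subgroup.mem_inf.2 ⟨hz1, Subgroup.mem_centralizer_iff.2 ?_⟩), hz3⟩
    intro c hc
    exact (hz2 c hc).symm

theorem LocalHyp.exists_odd (hL : LocalHyp P M D) (hVd : VData P D B V) :
    ∃ y ∈ NN D, (orderOf y).Coprime 2 ∧ y ∉ centralizer (V : Set G) := by
  by_contra hno
  push Not at hno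
  have hEn := conj_mem_inf_centralizer hVd.conj
  have hdec := eq_mul_of_odd_mem (NN D) (NN D ⊓ centralizer (V : Set G)) (P : Subgroup G)
    (fun y hy hyo => Subgroup.mem_inf.2 ⟨hy, hno y hy hyo⟩) hEn hL.le_NN P.isPGroup'
    (isSylowIn_of_le P hL.le_NN).2.2
  have hHM : NN D ≤ M := by
    intro h hh
    apply hL.hNZ
    refine mem_normalizer_of_forall_conj_mem ?_
    intro z hz
    obtain ⟨q, hq, hqe⟩ := hdec h hh
    obtain ⟨hz1, hz2, hz3⟩ := mem_Zo.1 hz
    have h1 : q * z * q⁻¹ = z := by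
      rw [← hz2 q hq]; group
    have h2 := Subgroup.mem_centralizer_iff.1 (Subgroup.mem_inf.1 hqe).2 z (hVd.Zo_le hz)
    have h3 : h * z * h⁻¹ = z := by
      calc h * z * h⁻¹ = (h * q⁻¹) * (q * z * q⁻¹) * (h * q⁻¹)⁻¹ := by group
        _ = (h * q⁻¹) * z * (h * q⁻¹)⁻¹ := by rw [h1]
        _ = (z * (h * q⁻¹)) * (h * q⁻¹)⁻¹ := by rw [h2]
        _ = z := by group
    rw [h3]
    exact hz
  obtain ⟨-, g, hgN, hgo, hgC⟩ := hL.hbad
  exact hgC (hL.odd_mem_centralizer (hHM hgN) hgo)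

/-- A proper overgroup of `D` in `P` is not bad. -/
theorem LocalHyp.good_of_lt (hL : LocalHyp P M D) {R : Subgroup G} (hRP : R ≤ P) (hDR : D ≤ R)
    {t : G} (htR : t ∈ R) (htD : t ∉ D) {g : G} (hg : g ∈ NN R) (hgo : (orderOf g).Coprime 2) :
    g ∈ centralizer (R : Set G) := by
  by_contra hgC
  have hbad : Bad 2 R := ⟨P.isPGroup'.to_le hRP, g, hg, hgo, hgC⟩
  have h1 := hL.hmax R hbad
  have h2 : D = R := Subgroup.eq_of_le_of_card_ge hDR h1
  exact htD (h2 ▸ htR)

theorem LocalHyp.cent_le (hL : LocalHyp P M D) (hVd : VData P D B V) :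
    ∀ p ∈ (P : Subgroup G), (∀ v ∈ V, p * v = v * p) → p ∈ D := by
  intro p hp hpc
  by_contra hpD
  obtain ⟨y, hy, hyo, hyC⟩ := hL.exists_odd hVd
  apply hyC
  set E : Subgroup G := NN D ⊓ centralizer (V : Set G) with hE
  have hEn := conj_mem_inf_centralizer hVd.conj
  have hPE : (P : Subgroup G) ≤ NN E := by
    intro u hu
    refine mem_normalizer_of_forall_conj_mem ?_
    intro e he
    exact hEn u (hL.le_NN hu) e he
  have hS : IsSylowIn 2 ((P : Subgroup G) ⊓ E) E := isSylowIn_inf (isSylowIn_top P) le_top hPE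
  have hDE : D ≤ E := by
    intro d hd
    refine Subgroup.mem_inf.2 ⟨Subgroup.le_normalizer hd, Subgroup.mem_centralizer_iff.2 ?_⟩
    intro v hv
    exact hVd.comm v hv d hd
  have hDR : D ≤ (P : Subgroup G) ⊓ E := le_inf hL.hDP hDE
  have hpR : p ∈ (P : Subgroup G) ⊓ E := by
    refine Subgroup.mem_inf.2 ⟨hp, Subgroup.mem_inf.2 ⟨hL.le_NN hp, Subgroup.mem_centralizer_iff.2 ?_⟩⟩
    intro v hv
    exact (hpc v hv).symm
  have hgood : ∀ g ∈ NN ((P : Subgroup G) ⊓ E), g ∈ NN D → (orderOf g).Coprime 2 → g ∈ E := by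
    intro g hg hgD hgo
    have h1 := hL.good_of_lt inf_le_left hDR hpR hpD hg hgo
    refine Subgroup.mem_inf.2 ⟨hgD, Subgroup.mem_centralizer_iff.2 ?_⟩
    intro v hv
    exact Subgroup.mem_centralizer_iff.1 h1 v (hDR (hVd.le_D hv))
  have hyE : y ∈ NN E := by
    refine mem_normalizer_of_forall_conj_mem ?_
    intro e he
    exact hEn y hy e he
  obtain ⟨e, he, hen⟩ := frattini_dec (E := E) hS
    (fun l hl => ⟨l, hl, 1, one_mem _, by simp⟩) hyE
  have := odd_mem_of_good (H := NN D) inf_le_left hEn hgood hy hyo he hen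
  exact (Subgroup.mem_inf.1 this).2

theorem LocalHyp.sq_mem (hL : LocalHyp P M D) (hVd : VData P D B V) :
    ∀ p ∈ (P : Subgroup G), p * p ∈ D := by
  intro p hp
  refine hL.cent_le hVd _ ((P : Subgroup G).mul_mem hp hp) ?_
  intro v hv
  have hvP : v ∈ (P : Subgroup G) := hL.hDP (hVd.le_D hv)
  have h1 : ⁅p, v⁆ ∈ V := by
    rw [commutatorElement_def]
    exact V.mul_mem (hVd.conj p (hL.le_NN hp) v hv) (V.inv_mem hv)
  have h2 := comm_mul_left hL.hcl hp hp hvP
  rw [hVd.sq _ h1] at h2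
  exact commutatorElement_eq_one_iff_mul_comm.1 h2

/-- Commutators of `P` with `B` have square one. -/
theorem LocalHyp.comm_mem_V (hL : LocalHyp P M D) (hB : BData P D B) (hVd : VData P D B V) :
    ∀ x ∈ (P : Subgroup G), ∀ v ∈ B, ⁅x, v⁆ ∈ V := by
  intro x hx v hv
  have hvP : v ∈ (P : Subgroup G) := hL.hDP (hB.le_D hv)
  refine (hVd.mem _).2 ⟨?_, ?_⟩
  · rw [commutatorElement_def]
    exact B.mul_mem (hB.conj x (hL.le_NN hx) v hv) (B.inv_mem hv)
  · have h2 := comm_mul_left hL.hcl hx hx hvP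
    rw [← h2]
    exact commutatorElement_eq_one_iff_mul_comm.2 (hB.comm v hv _ (hL.sq_mem hVd x hx)).symm

theorem LocalHyp.frob_output (hL : LocalHyp P M D) (hB : BData P D B) (hVd : VData P D B V) :
    (∀ t ∈ (P : Subgroup G), ∀ s ∈ (P : Subgroup G), t ∉ D → s ∉ D → t * s ∈ D) ∧
    ∀ t ∈ (P : Subgroup G), t ∉ D → ∀ y ∈ NN D, (orderOf y).Coprime 2 →
      t * y * t⁻¹ * y ∈ centralizer (B : Set G) := by
  set E : Subgroup G := NN D ⊓ centralizer (B : Set G) with hE
  have hEn := conj_mem_inf_centralizer hB.conj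
  have hDE : D ≤ E := by
    intro d hd
    refine Subgroup.mem_inf.2 ⟨Subgroup.le_normalizer hd, Subgroup.mem_centralizer_iff.2 ?_⟩
    intro v hv
    exact hB.comm v hv d hd
  have hPE : ∀ t ∈ (P : Subgroup G), t ∈ E → t ∈ D := by
    intro t ht hte
    refine hL.cent_le hVd t ht ?_
    intro v hv
    exact (Subgroup.mem_centralizer_iff.1 (Subgroup.mem_inf.1 hte).2 v (hVd.le_B hv)).symm
  have hPNE : (P : Subgroup G) ≤ NN E := by
    intro u hu
    refine mem_normalizer_of_forall_conj_mem ?_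
    intro e he
    exact hEn u (hL.le_NN hu) e he
  have hmain := frob_two_internal (NN D) E (P : Subgroup G) hEn hL.le_NN P.isPGroup'
    (isSylowIn_of_le P hL.le_NN).2.2
    (fun p hp => hDE (hL.sq_mem hVd p hp))
    (by
      intro n hn hnp
      have hnL : n ∈ NN (E ⊔ (P : Subgroup G)) := by
        refine mem_normalizer_of_forall_conj_mem ?_
        intro l hl
        obtain ⟨e, he, q, hq, rfl⟩ := exists_mul_of_mem_sup hPNE hl
        obtain ⟨q', hq', hqe⟩ := hnp q hq
        have e1 : n * (e * q) * n⁻¹ = (n * e * n⁻¹) * ((n * q * n⁻¹ * q'⁻¹) * q') := by group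
        rw [e1]
        exact (E ⊔ (P : Subgroup G)).mul_mem (Subgroup.mem_sup_left (hEn n hn e he))
          ((E ⊔ (P : Subgroup G)).mul_mem (Subgroup.mem_sup_left hqe) (Subgroup.mem_sup_right hq'))
      obtain ⟨e, he, hen⟩ := frattini_dec (E := E) (isSylowIn_of_le P le_sup_right)
        (fun l hl => by
          obtain ⟨e, he, q, hq, rfl⟩ := exists_mul_of_mem_sup hPNE hl
          exact ⟨e, he, q, hq, rfl⟩) hnL
      obtain ⟨a, ha, b, hb, hbo, hab⟩ := hL.hdec _ (hL.hNP hen)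
      refine ⟨a, ha, ?_⟩
      have hbE : b ∈ E := by
        refine Subgroup.mem_inf.2 ⟨hL.M_le_NN hb, Subgroup.mem_centralizer_iff.2 ?_⟩
        intro v hv
        exact (hL.hcomm b hb hbo v (hL.hDP (hB.le_D hv))).symm
      have e1 : n * a⁻¹ = e⁻¹ * (a * b * a⁻¹) := by
        have : n = e⁻¹ * (a * b) := by rw [← hab]; group
        rw [this]; group
      rw [e1]
      exact E.mul_mem (E.inv_mem he) (hEn a (hL.le_NN ha) b hbE))
    (by
      intro t ht hte y hy hyo hc
      have htD : t ∉ D := fun h => hte (hDE h)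
      set L : Subgroup G := E ⊔ zpowers t with hLdef
      have htL : t ∈ L := Subgroup.mem_sup_right (mem_zpowers t)
      have hEL : E ≤ L := le_sup_left
      have hnormL : ∀ u ∈ NN D, u * t * u⁻¹ * t⁻¹ ∈ E → u ∈ NN L := by
        intro u hu hut
        refine mem_normalizer_of_forall_conj_mem ?_
        have hle : L ≤ L.comap (MulAut.conj u).toMonoidHom := by
          refine sup_le ?_ ?_
          · intro e he
            exact hEL (hEn u hu e he)
          · rw [Subgroup.zpowers_le]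
            show u * t * u⁻¹ ∈ L
            have e1 : u * t * u⁻¹ = (u * t * u⁻¹ * t⁻¹) * t := by group
            rw [e1]
            exact L.mul_mem (hEL hut) htL
        intro l hl
        exact hle hl
      have hPL : (P : Subgroup G) ≤ NN L := by
        intro p hp
        refine hnormL p (hL.le_NN hp) ?_
        have h1 := hL.cen_le (hL.comm_mem_cen hp ht)
        rw [commutatorElement_def] at h1
        exact hDE h1
      have hS : IsSylowIn 2 ((P : Subgroup G) ⊓ L) L := isSylowIn_inf (isSylowIn_top P) le_top hPL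
      have htN : zpowers t ≤ NN E := by
        rw [Subgroup.zpowers_le]
        exact hPNE ht
      have htR : t ∈ (P : Subgroup G) ⊓ L := Subgroup.mem_inf.2 ⟨ht, htL⟩
      have hdecL : ∀ l ∈ L, ∃ e ∈ E, ∃ r ∈ (P : Subgroup G) ⊓ L, l = e * r := by
        intro l hl
        obtain ⟨e, he, q, hq, rfl⟩ := exists_mul_of_mem_sup htN hl
        refine ⟨e, he, q, ?_, rfl⟩
        exact (Subgroup.zpowers_le.2 htR) hq
      have hyL : y ∈ NN L := by
        refine hnormL y hy ?_
        have e1 : y * t * y⁻¹ * t⁻¹ = (t * y * t⁻¹ * y⁻¹)⁻¹ := by group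
        rw [e1]
        exact E.inv_mem hc
      obtain ⟨e, he, hen⟩ := frattini_dec hS hdecL hyL
      have hDR : D ≤ (P : Subgroup G) ⊓ L := le_inf hL.hDP (hDE.trans hEL)
      refine odd_mem_of_good (H := NN D) inf_le_left hEn ?_ hy hyo he hen
      intro g hg hgD hgo
      have h1 := hL.good_of_lt inf_le_left hDR htR htD hg hgo
      refine Subgroup.mem_inf.2 ⟨hgD, Subgroup.mem_centralizer_iff.2 ?_⟩
      intro v hv
      exact Subgroup.mem_centralizer_iff.1 h1 v (hDR (hB.le_D hv)))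
  rcases hmain with h1 | ⟨h1, h2⟩
  · exfalso
    obtain ⟨y, hy, hyo, hyC⟩ := hL.exists_odd hVd
    apply hyC
    have := h1 y hy hyo
    exact Subgroup.centralizer_le (SetLike.coe_subset_coe.2 hVd.le_B) (Subgroup.mem_inf.1 this).2
  · refine ⟨?_, ?_⟩
    · intro t ht s hs htD hsD
      have htE : t ∉ E := fun h => htD (hPE t ht h)
      have hsE : s ∉ E := fun h => hsD (hPE s hs h)
      have h3 := hPE _ ((P : Subgroup G).mul_mem ht ((P : Subgroup G).inv_mem hs)) (h1 t ht s hs htE hsE)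
      have e1 : t * s = (t * s⁻¹) * (s * s) := by group
      rw [e1]
      exact D.mul_mem h3 (hL.sq_mem hVd s hs)
    · intro t ht htD y hy hyo
      have htE : t ∉ E := fun h => htD (hPE t ht h)
      exact (Subgroup.mem_inf.1 (h2 t ht htE y hy hyo)).2

end Cfsg.Agent.Lib.InvNilp
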