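import Cfsg.Agent.Lib.InvNilp.Compl

/-!
# Maximal invariant nilpotent subgroups under coprime action, given the odd order theorem
-/

set_option autoImplicit false
set_option linter.unusedSectionVars false

namespace Cfsg.Agent.Lib.InvNilp

open Subgroup Cfsg
open scoped commutatorElement Pointwise
open Cfsg.Agent.Lib.Coprime.Action Cfsg.Agent.Lib.Transfer.Basic
open Cfsg.Agent.Lib.PointStab.SylowJoin (NN isSylowIn_inf)
open Cfsg.Agent.Lib.Core.CoprimeMap (mem_normalizer_of_forall_conj_mem)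

universe u v

variable {G : Type u} [Group G] [Finite G] {A : Type v} [Group A] [Finite A]

/-- The core-free case. -/
theorem solvable_of_corefree
    (ftu : ∀ (X : Type u) [Group X] [Finite X], Odd (Nat.card X) → Group.IsSolvable X)
    (ftm : ∀ (X : Type (max u v)) [Group X] [Finite X], Odd (Nat.card X) → Group.IsSolvable X)
    (φ : A →* MulAut G) (hcop : (Nat.card A).Coprime (Nat.card G))
    (M : Subgroup G) (hMinv : ∀ a : A, ∀ m : G, m ∈ M → φ a m ∈ M)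
    (hMmax : ∀ H : Subgroup G, M ≤ H → H ≠ ⊤ → (∀ a : A, ∀ h : G, h ∈ H → φ a h ∈ H) → H = M)
    (hnil : Group.IsNilpotent M)
    (h2' : ∀ a ∈ M, ∀ b ∈ M, ∀ c ∈ M, (∃ k : ℕ, a ^ 2 ^ k = 1) → (∃ k : ℕ, b ^ 2 ^ k = 1) →
      (∃ k : ℕ, c ^ 2 ^ k = 1) → ⁅a, b⁆ * c = c * ⁅a, b⁆)
    (hcore : ∀ N : Subgroup G, N.Normal → (∀ a : A, ∀ x ∈ N, φ a x ∈ N) → N ≤ M → N = ⊥) :
    Group.IsSolvable G := by
  by_cases hodd : Odd (Nat.card G)
  · exact ftu G hodd
  have hG2 : 2 ∣ Nat.card G := (Nat.not_odd_iff_even.1 hodd).two_dvd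
  have hAo : Odd (Nat.card A) := Nat.coprime_two_right.1 (hcop.coprime_dvd_right hG2)
  by_cases h2M : 2 ∣ Nat.card M
  · obtain ⟨T, hTM, hTA, -, hcomm, hnorm⟩ :=
      exists_inv_sylow_data φ M hMinv hMmax hnil hcore (p := 2) h2M
    have h2el : ∀ a ∈ (T : Subgroup G), ∃ k : ℕ, a ^ 2 ^ k = 1 := by
      intro a ha
      obtain ⟨k, hk⟩ := T.isPGroup' ⟨a, ha⟩
      exact ⟨k, congrArg Subtype.val hk⟩
    have hcl : ∀ a ∈ (T : Subgroup G), ∀ b ∈ (T : Subgroup G), ∀ c ∈ (T : Subgroup G),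
        ⁅a, b⁆ * c = c * ⁅a, b⁆ := fun a ha b hb c hc =>
      h2' a (hTM ha) b (hTM hb) c (hTM hc) (h2el a ha) (h2el b hb) (h2el c hc)
    obtain ⟨P, N, hNn, hN⟩ := hasNormalTwoComplement hAo φ T hTA hcl M hTM hcomm hnorm
    have hNo : Odd (Nat.card N) := Nat.coprime_two_right.1 (coprime_card_of_isComplement' hN)
    have : Group.IsSolvable N := ftu N hNo
    have : Group.IsNilpotent (G ⧸ N) := (isPGroup_quotient_of_isComplement' hN).isNilpotent
    have : Group.IsSolvable (G ⧸ N) := inferInstance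
    exact Group.isSolvable_of_ker_le_range N.subtype (QuotientGroup.mk' N) (by
      intro x hx
      rw [MonoidHom.mem_ker, QuotientGroup.mk'_apply, QuotientGroup.eq_one_iff] at hx
      exact ⟨⟨x, hx⟩, rfl⟩)
  · have hdata : ∀ q : ℕ, ∀ (_ : Fact q.Prime), q ∣ Nat.card M → ∃ P : Sylow q G, (P : Subgroup G) ≤ M ∧
        HasNormalPComplement q G := by
      intro q hq hqM
      obtain ⟨T, hTM, hTA, -, -, hnorm⟩ :=
        exists_inv_sylow_data φ M hMinv hMmax hnil hcore (p := q) hqM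
      refine ⟨T, hTM, ?_⟩
      have hq2 : q ≠ 2 := by
        rintro rfl
        exact h2M hqM
      have hT1 : (T : Subgroup G) ≠ ⊥ :=
        T.ne_bot_of_dvd_card (hqM.trans (Subgroup.card_subgroup_dvd_card M))
      exact hasNormalPComplement_of_odd_inv φ hq2 M hnil T hT1 hTA hnorm
    have hHall : Nat.Coprime (Nat.card M) M.index := by
      apply Nat.coprime_of_dvd
      intro q hq h1 h2
      obtain ⟨P, hPM, -⟩ := hdata q ⟨hq⟩ h1
      have : Fact q.Prime := ⟨hq⟩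
      have h3 : (P : Subgroup G).relIndex M * M.index = (P : Subgroup G).index :=
        Subgroup.relIndex_mul_index hPM
      exact P.not_dvd_index (h3 ▸ Dvd.dvd.mul_left h2 _)
    obtain ⟨K, hKn, hK⟩ :=
      Cfsg.Agent.Lib.Transfer.Hall.exists_normal_complement_of_forall_prime M hHall
        (fun q hq hqM => (hdata q ⟨hq⟩ hqM).choose_spec.2)
    have hcard : Nat.card K = M.index := by
      have h1 := hK.card_mul_card
      have h2 := M.card_mul_index
      have hpos : 0 < Nat.card M := Nat.card_pos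
      have : Nat.card K * Nat.card M = M.index * Nat.card M := by rw [h1, mul_comm M.index, h2]
      exact Nat.eq_of_mul_eq_mul_right hpos this
    exact solvable_of_odd_complement ftm φ hcop hAo M hMinv hMmax hnil h2M K hKn hK hG2
      (by rw [hcard]; exact hHall)

/-- The action on a quotient by an invariant normal subgroup. -/
theorem exists_quotAct (φ : A →* MulAut G) (N : Subgroup G) [hN : N.Normal]
    (hNA : ∀ a, ∀ x ∈ N, φ a x ∈ N) :
    ∃ ψ : A →* MulAut (G ⧸ N), ∀ (a : A) (x : G), ψ a (x : G ⧸ N) = ((φ a x : G) : G ⧸ N) := by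
  have he : ∀ a, N.map (φ a).toMonoidHom = N := by
    intro a
    apply Subgroup.eq_of_le_of_card_ge
    · rintro _ ⟨x, hx, rfl⟩
      exact hNA a x hx
    · rw [Subgroup.card_map_of_injective (φ a).injective]
  let f : A → MulAut (G ⧸ N) := fun a => QuotientGroup.congr N N (φ a) (he a)
  have hf : ∀ (a : A) (x : G), f a (x : G ⧸ N) = ((φ a x : G) : G ⧸ N) := by
    intro a x
    rfl
  refine ⟨MonoidHom.mk' f ?_, hf⟩
  intro a b
  ext x
  induction x using QuotientGroup.induction_on with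
  | H x =>
    rw [MulAut.mul_apply, hf, hf, hf, map_mul, MulAut.mul_apply]

/-- Main theorem, given the odd order theorem. -/
theorem main_of_ft
    (ftu : ∀ (X : Type u) [Group X] [Finite X], Odd (Nat.card X) → Group.IsSolvable X)
    (ftm : ∀ (X : Type (max u v)) [Group X] [Finite X], Odd (Nat.card X) → Group.IsSolvable X)
    (φ : A →* MulAut G) (hcop : (Nat.card A).Coprime (Nat.card G))
    (M : Subgroup G) (hMtop : M ≠ ⊤) (hMinv : ∀ a : A, ∀ m : G, m ∈ M → φ a m ∈ M)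
    (hMmax : ∀ H : Subgroup G, M ≤ H → H ≠ ⊤ → (∀ a : A, ∀ h : G, h ∈ H → φ a h ∈ H) → H = M)
    (hnil : Group.IsNilpotent M)
    (h2 : ∀ S : Sylow 2 ↥M, Group.nilpotencyClass ↥(S : Subgroup ↥M) ≤ 2) :
    Group.IsSolvable G := by
  -- the hypothesis on 2-elements
  have h2' : ∀ a ∈ M, ∀ b ∈ M, ∀ c ∈ M, (∃ k : ℕ, a ^ 2 ^ k = 1) → (∃ k : ℕ, b ^ 2 ^ k = 1) →
      (∃ k : ℕ, c ^ 2 ^ k = 1) → ⁅a, b⁆ * c = c * ⁅a, b⁆ := by
    rintro a ha b hb c hc ⟨i, hi⟩ ⟨j, hj⟩ ⟨k, hk⟩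
    obtain ⟨S⟩ : Nonempty (Sylow 2 M) := inferInstance
    have haS : (⟨a, ha⟩ : M) ∈ (S : Subgroup M) :=
      Cfsg.Agent.Lib.SolvStruct.NilpMax.mem_sylow_of_nilpotent hnil S (k := i)
        (Subtype.ext (by simpa using hi))
    have hbS : (⟨b, hb⟩ : M) ∈ (S : Subgroup M) :=
      Cfsg.Agent.Lib.SolvStruct.NilpMax.mem_sylow_of_nilpotent hnil S (k := j)
        (Subtype.ext (by simpa using hj))
    have hcS : (⟨c, hc⟩ : M) ∈ (S : Subgroup M) :=
      Cfsg.Agent.Lib.SolvStruct.NilpMax.mem_sylow_of_nilpotent hnil S (k := k)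
        (Subtype.ext (by simpa using hk))
    have hnilS : Group.IsNilpotent ↥(S : Subgroup M) := S.isPGroup'.isNilpotent
    have h1 : Subgroup.upperCentralSeries ↥(S : Subgroup M) 2 = ⊤ := by
      rw [Subgroup.upperCentralSeries_eq_top_iff_nilpotencyClass_le]
      exact h2 S
    have h3 : (⟨⟨a, ha⟩, haS⟩ : ↥(S : Subgroup M)) ∈ Subgroup.upperCentralSeries ↥(S : Subgroup M) 2 :=
      h1 ▸ Subgroup.mem_top _
    rw [Subgroup.mem_upperCentralSeries_succ_iff] at h3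
    have h4 := h3 ⟨⟨b, hb⟩, hbS⟩
    rw [Subgroup.upperCentralSeries_one, Subgroup.mem_center_iff] at h4
    have h5 := congrArg (fun x : ↥(S : Subgroup M) => ((x : M) : G)) (h4 ⟨⟨c, hc⟩, hcS⟩)
    simp only [Subgroup.coe_mul] at h5
    rw [commutatorElement_def]
    exact h5.symm
  -- the core
  set N₀ : Subgroup G := M.normalCore with hN₀
  haveI hN₀n : N₀.Normal := Subgroup.normalCore_normal M
  have hN₀M : N₀ ≤ M := Subgroup.normalCore_le M
  have hN₀A : ∀ a, ∀ x ∈ N₀, φ a x ∈ N₀ := by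
    intro a x hx
    have hx' : ∀ b, b * x * b⁻¹ ∈ M := hx
    show ∀ b, b * φ a x * b⁻¹ ∈ M
    intro g
    have e1 : φ a (φ a⁻¹ g) = g := by
      rw [← MulAut.mul_apply, ← map_mul]; simp
    obtain ⟨g', hg'⟩ : ∃ g', g' = φ a⁻¹ g := ⟨_, rfl⟩
    rw [← hg'] at e1
    have e2 : g * φ a x * g⁻¹ = φ a (g' * x * g'⁻¹) := by
      rw [map_mul, map_mul, map_inv, e1]
    rw [e2]
    exact hMinv a _ (hx' g')
  obtain ⟨ψ, hψ⟩ := exists_quotAct φ N₀ hN₀A
  let π : G →* G ⧸ N₀ := QuotientGroup.mk' N₀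
  have hπs : Function.Surjective π := QuotientGroup.mk'_surjective N₀
  have hψ' : ∀ a x, ψ a (π x) = π (φ a x) := hψ
  set Mb : Subgroup (G ⧸ N₀) := M.map π with hMb
  have hmem : ∀ g, π g ∈ Mb → g ∈ M := by
    rintro g ⟨m, hm, hmg⟩
    have h1 : m⁻¹ * g ∈ N₀ := by
      rw [← QuotientGroup.ker_mk' N₀, MonoidHom.mem_ker, map_mul, map_inv]
      have : (QuotientGroup.mk' N₀) m = (QuotientGroup.mk' N₀) g := hmg
      rw [this, inv_mul_cancel]
    have e : g = m * (m⁻¹ * g) := by group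
    rw [e]
    exact M.mul_mem hm (hN₀M h1)
  have hcopb : (Nat.card A).Coprime (Nat.card (G ⧸ N₀)) :=
    hcop.coprime_dvd_right (Subgroup.card_quotient_dvd_card N₀)
  have hMbA : ∀ a : A, ∀ m : G ⧸ N₀, m ∈ Mb → ψ a m ∈ Mb := by
    rintro a _ ⟨m, hm, rfl⟩
    rw [hψ']
    exact ⟨_, hMinv a m hm, rfl⟩
  have hMbmax : ∀ H : Subgroup (G ⧸ N₀), Mb ≤ H → H ≠ ⊤ →
      (∀ a : A, ∀ h : G ⧸ N₀, h ∈ H → ψ a h ∈ H) → H = Mb := by
    intro H hMH htop hHA
    have h1 : H.comap π = M := by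
      refine hMmax _ ?_ ?_ ?_
      · intro m hm
        exact hMH ⟨m, hm, rfl⟩
      · intro h
        apply htop
        rw [eq_top_iff]
        intro x _
        obtain ⟨g, rfl⟩ := hπs x
        have : g ∈ H.comap π := h ▸ Subgroup.mem_top g
        exact this
      · intro a h hh
        show π (φ a h) ∈ H
        rw [← hψ']
        exact hHA a _ hh
    apply le_antisymm _ hMH
    intro x hx
    obtain ⟨g, rfl⟩ := hπs x
    have : g ∈ H.comap π := hx
    rw [h1] at this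
    exact ⟨g, this, rfl⟩
  have hnilb : Group.IsNilpotent Mb :=
    Group.nilpotent_of_surjective (π.subgroupMap M) (π.subgroupMap_surjective M)
  -- lifting 2-elements
  have hlift : ∀ x ∈ Mb, (∃ k : ℕ, x ^ 2 ^ k = 1) → ∃ y ∈ M, (∃ k : ℕ, y ^ 2 ^ k = 1) ∧ π y = x := by
    rintro _ ⟨y, hy, rfl⟩ ⟨k, hk⟩
    obtain ⟨a, b, hab, hc, hak, hb, ha', hb'⟩ :=
      Cfsg.Agent.Lib.Core.Residual.exists_pPart_pPrimePart 2 y (isOfFinOrder_of_finite y)
    refine ⟨a, (Subgroup.zpowers_le.2 hy) ha', hak, ?_⟩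
    have hb1 : π b = 1 := by
      obtain ⟨i, rfl⟩ := Subgroup.mem_zpowers_iff.1 hb'
      have h1 : (π (y ^ i)) ^ 2 ^ k = 1 := by
        rw [map_zpow, ← zpow_natCast, zpow_comm, zpow_natCast, hk, one_zpow]
      have h2 : orderOf (π (y ^ i)) ∣ orderOf (y ^ i) := orderOf_map_dvd π _
      have hc2 : Nat.Coprime (2 ^ k) (orderOf (y ^ i)) := Nat.Coprime.pow_left _ hb.symm
      have h3 := Nat.eq_one_of_dvd_coprimes hc2 (orderOf_dvd_of_pow_eq_one h1) h2
      exact orderOf_eq_one_iff.1 h3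
    rw [← hab, map_mul, hb1, mul_one]
  have h2b : ∀ a ∈ Mb, ∀ b ∈ Mb, ∀ c ∈ Mb, (∃ k : ℕ, a ^ 2 ^ k = 1) → (∃ k : ℕ, b ^ 2 ^ k = 1) →
      (∃ k : ℕ, c ^ 2 ^ k = 1) → ⁅a, b⁆ * c = c * ⁅a, b⁆ := by
    intro a ha b hb c hc ha2 hb2 hc2
    obtain ⟨a', ha', ha'2, rfl⟩ := hlift a ha ha2
    obtain ⟨b', hb', hb'2, rfl⟩ := hlift b hb hb2
    obtain ⟨c', hc', hc'2, rfl⟩ := hlift c hc hc2
    have := congrArg π (h2' a' ha' b' hb' c' hc' ha'2 hb'2 hc'2)
    rwa [map_mul, map_mul, map_commutatorElement] at this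
  have hcoreb : ∀ N : Subgroup (G ⧸ N₀), N.Normal → (∀ a : A, ∀ x ∈ N, ψ a x ∈ N) → N ≤ Mb →
      N = ⊥ := by
    intro N hN _ hNM
    rw [eq_bot_iff]
    intro x hx
    obtain ⟨g, rfl⟩ := hπs x
    have h1 : N.comap π ≤ M := fun y hy => hmem y (hNM hy)
    haveI : (N.comap π).Normal := hN.comap π
    have h2 : N.comap π ≤ N₀ := (Subgroup.normal_le_normalCore).2 h1
    have h3 : g ∈ N₀ := h2 hx
    rw [Subgroup.mem_bot]
    exact (QuotientGroup.eq_one_iff g).2 h3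
  have hsolvb : Group.IsSolvable (G ⧸ N₀) :=
    solvable_of_corefree ftu ftm ψ hcopb Mb hMbA hMbmax hnilb h2b hcoreb
  have : Group.IsSolvable M := inferInstance
  have hsolvN : Group.IsSolvable N₀ :=
    Group.isSolvable_of_isSolvable_injective (Subgroup.inclusion_injective hN₀M)
  exact Group.isSolvable_of_ker_le_range N₀.subtype (QuotientGroup.mk' N₀) (by
    intro x hx
    rw [MonoidHom.mem_ker, QuotientGroup.mk'_apply, QuotientGroup.eq_one_iff] at hx
    exact ⟨⟨x, hx⟩, rfl⟩)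

end Cfsg.Agent.Lib.InvNilp
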