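import Cfsg.Agent.Lib.InvNilp.Local2

/-!
# The transvection commutator is neither a square nor a commutator in `D`
-/

set_option autoImplicit false
set_option linter.unusedSectionVars false

namespace Cfsg.Agent.Lib.InvNilp

open Subgroup Cfsg
open scoped commutatorElement Pointwise
open Cfsg.Agent.Lib.Coprime.Action Cfsg.Agent.Lib.SolvStruct.NilpMax
open Cfsg.Agent.Lib.PointStab.SylowJoin (NN isSylowIn_inf)
open Cfsg.Agent.Lib.Core.CoprimeMap (mem_normalizer_of_forall_conj_mem)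

universe u

variable {G : Type u} [Group G] [Finite G] {P : Sylow 2 G} {M D B V : Subgroup G}

theorem LocalHyp.phi (hL : LocalHyp P M D) (hB : BData P D B) (hVd : VData P D B V) :
    ∀ x ∈ (P : Subgroup G), x ∉ D → ∀ z : G, z ≠ 1 → (∀ v ∈ V, ⁅x, v⁆ = 1 ∨ ⁅x, v⁆ = z) →
      (∀ d ∈ D, d * d ≠ z) ∧ (∀ d₁ ∈ D, ∀ d₂ ∈ D, ⁅d₁, d₂⁆ ≠ z) := by
  intro x hx hxD z hz1 hz
  obtain ⟨y, hy, hyo, hyC⟩ := hL.exists_odd hVd
  have hinv := (hL.frob_output hB hVd).2 x hx hxD y hy hyo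
  have hxH : x ∈ NN D := hL.le_NN hx
  have hyinv : y⁻¹ ∈ NN D := (NN D).inv_mem hy
  have hxxB : ∀ v ∈ B, (x * x) * v = v * (x * x) := fun v hv =>
    (hB.comm v hv _ (hL.sq_mem hVd x hx)).symm
  -- `z` lies in `V`
  have hzV : z ∈ V := by
    have : ∃ v ∈ V, ¬ (x * v = v * x) := by
      by_contra hno
      push Not at hno
      exact hxD (hL.cent_le hVd x hx hno)
    obtain ⟨v, hv, hvc⟩ := this
    rcases hz v hv with h | h
    · exact absurd (commutatorElement_eq_one_iff_mul_comm.1 h) hvc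
    · rw [← h]
      exact hL.comm_mem_V hB hVd x hx v (hVd.le_B hv)
  have hzsq : z * z = 1 := hVd.sq z hzV
  -- the action of `y * y` on `B`
  set e : G := x * y * x⁻¹ * y with he
  have hxconj : ∀ v ∈ B, x * v * x⁻¹ = ⁅x, v⁆ * v := by
    intro v _
    rw [commutatorElement_def]; group
  have hxinv : ∀ v ∈ B, x⁻¹ * v * x = x * v * x⁻¹ := by
    intro v hv
    have h1 := hxxB v hv
    calc x⁻¹ * v * x = x⁻¹ * (v * (x * x)) * x⁻¹ := by group
      _ = x⁻¹ * ((x * x) * v) * x⁻¹ := by rw [h1]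
      _ = x * v * x⁻¹ := by group
  have hW : ∀ v ∈ B, (y * y) * v * (y * y)⁻¹ =
      (y * ⁅x, y⁻¹ * (⁅x, v⁆ * v) * y⁆ * y⁻¹) * (⁅x, v⁆ * v) := by
    intro v hv
    have hev : e * v * e⁻¹ = v := by
      have := Subgroup.mem_centralizer_iff.1 hinv v hv
      rw [← this]; group
    have hv₁B : ⁅x, v⁆ * v ∈ B := by
      rw [← hxconj v hv]
      exact hB.conj x hxH v hv
    have hv₂B : y⁻¹ * (⁅x, v⁆ * v) * y ∈ B := by
      have := hB.conj y⁻¹ hyinv _ hv₁B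
      simpa using this
    calc (y * y) * v * (y * y)⁻¹
        = (y * x * y⁻¹ * x⁻¹) * (e * v * e⁻¹) * (y * x * y⁻¹ * x⁻¹)⁻¹ := by
          rw [he]; group
      _ = (y * x * y⁻¹ * x⁻¹) * v * (y * x * y⁻¹ * x⁻¹)⁻¹ := by rw [hev]
      _ = y * x * y⁻¹ * (x⁻¹ * v * x) * y * x⁻¹ * y⁻¹ := by group
      _ = y * x * y⁻¹ * (⁅x, v⁆ * v) * y * x⁻¹ * y⁻¹ := by rw [hxinv v hv, hxconj v hv]
      _ = y * (x * (y⁻¹ * (⁅x, v⁆ * v) * y) * x⁻¹) * y⁻¹ := by group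
      _ = y * (⁅x, y⁻¹ * (⁅x, v⁆ * v) * y⁆ * (y⁻¹ * (⁅x, v⁆ * v) * y)) * y⁻¹ := by
          rw [hxconj _ hv₂B]
      _ = (y * ⁅x, y⁻¹ * (⁅x, v⁆ * v) * y⁆ * y⁻¹) * (⁅x, v⁆ * v) := by group
  have hVy : ∀ c ∈ V, y * c * y⁻¹ ∈ V := fun c hc => hVd.conj y hy c hc
  have hVab : ∀ a ∈ V, ∀ b ∈ V, a * b = b * a := fun a ha b hb =>
    hVd.comm a ha b (hVd.le_D hb)
  -- `y` is a power of `y * y`
  have hyy : ∃ s : ℕ, (y * y) ^ s = y := by
    obtain ⟨s, hs⟩ := exists_pow_eq_self_of_coprime (x := y) (n := 2) hyo.symm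
    exact ⟨s, by rw [← sq]; exact hs⟩
  obtain ⟨s, hs⟩ := hyy
  -- Step 1: `y` moves `z`
  have hmove : y * z * y⁻¹ ≠ z := by
    intro hfix
    apply hyC
    rw [Subgroup.mem_centralizer_iff]
    intro v hv
    have hvB : v ∈ B := hVd.le_B hv
    have hv₁V : ⁅x, v⁆ * v ∈ V := V.mul_mem (hL.comm_mem_V hB hVd x hx v hvB) hv
    have hv₂V : y⁻¹ * (⁅x, v⁆ * v) * y ∈ V := by
      have := hVd.conj y⁻¹ hyinv _ hv₁V
      simpa using this
    have hε : ∃ ε : G, (ε = 1 ∨ ε = z) ∧ (y * y) * v * (y * y)⁻¹ = ε * v := by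
      rw [hW v hvB]
      rcases hz _ hv₂V with h1 | h1 <;> rcases hz _ hv with h2 | h2
      · exact ⟨1, Or.inl rfl, by rw [h1, h2]; simp⟩
      · exact ⟨z, Or.inr rfl, by rw [h1, h2]; simp⟩
      · exact ⟨z, Or.inr rfl, by rw [h1, h2, hfix]; simp⟩
      · exact ⟨1, Or.inl rfl, by rw [h1, h2, hfix, ← mul_assoc, hzsq]⟩
    obtain ⟨ε, hε1, hε2⟩ := hε
    have hεfix : (y * y) * ε * (y * y)⁻¹ = ε := by
      rcases hε1 with h | h
      · rw [h]; simp
      · rw [h]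
        calc (y * y) * z * (y * y)⁻¹ = y * (y * z * y⁻¹) * y⁻¹ := by group
          _ = z := by rw [hfix, hfix]
    have hεsq : ε * ε = 1 := by
      rcases hε1 with h | h
      · rw [h]; simp
      · rw [h]; exact hzsq
    have h4 : ((y * y) * (y * y)) * v * ((y * y) * (y * y))⁻¹ = v := by
      calc ((y * y) * (y * y)) * v * ((y * y) * (y * y))⁻¹
          = (y * y) * ((y * y) * v * (y * y)⁻¹) * (y * y)⁻¹ := by group
        _ = (y * y) * (ε * v) * (y * y)⁻¹ := by rw [hε2]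
        _ = ((y * y) * ε * (y * y)⁻¹) * ((y * y) * v * (y * y)⁻¹) := by group
        _ = ε * (ε * v) := by rw [hεfix, hε2]
        _ = (ε * ε) * v := by group
        _ = v := by rw [hεsq, one_mul]
    -- so `y` centralizes `v`
    have hco4 : (orderOf y).Coprime 4 := by
      have : (4 : ℕ) = 2 ^ 2 := by norm_num
      rw [this]
      exact Nat.Coprime.pow_right 2 hyo
    obtain ⟨s', hs'⟩ := exists_pow_eq_self_of_coprime (x := y) (n := 4) hco4.symm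
    have h5 : y ^ 4 = (y * y) * (y * y) := by
      simp only [pow_succ, pow_zero, one_mul, mul_assoc]
    have h6 : y ^ 4 * v = v * y ^ 4 := by
      rw [h5]
      calc ((y * y) * (y * y)) * v
          = (((y * y) * (y * y)) * v * ((y * y) * (y * y))⁻¹) * ((y * y) * (y * y)) := by group
        _ = v * ((y * y) * (y * y)) := by rw [h4]
    have h7 : ∀ k : ℕ, (y ^ 4) ^ k * v = v * (y ^ 4) ^ k := by
      intro k
      induction k with
      | zero => simp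
      | succ k ih => rw [pow_succ, mul_assoc, h6, ← mul_assoc, ih, mul_assoc]
    have h8 := h7 s'
    rw [hs'] at h8
    exact h8.symm
  -- Step 2
  set c₀ : G := y * z * y⁻¹ * z⁻¹ with hc₀
  have hc₀V : c₀ ∈ V := V.mul_mem (hVy z hzV) (V.inv_mem hzV)
  have hc₀sq : c₀ * c₀ = 1 := hVd.sq _ hc₀V
  have hc' : y * c₀ * y⁻¹ * c₀⁻¹ ≠ 1 := by
    intro h
    have hfix : y * c₀ * y⁻¹ = c₀ := by
      rwa [mul_inv_eq_one] at h
    have h1 : y * z * y⁻¹ = c₀ * z := by rw [hc₀]; group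
    have h2 : (y * y) * z * (y * y)⁻¹ = z := by
      calc (y * y) * z * (y * y)⁻¹ = y * (y * z * y⁻¹) * y⁻¹ := by group
        _ = y * (c₀ * z) * y⁻¹ := by rw [h1]
        _ = (y * c₀ * y⁻¹) * (y * z * y⁻¹) := by group
        _ = c₀ * (c₀ * z) := by rw [hfix, h1]
        _ = (c₀ * c₀) * z := by group
        _ = z := by rw [hc₀sq, one_mul]
    have h3 : ∀ k : ℕ, (y * y) ^ k * z = z * (y * y) ^ k := by
      intro k
      induction k with
      | zero => simp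
      | succ k ih =>
        have h4 : (y * y) * z = z * (y * y) := by
          calc (y * y) * z = ((y * y) * z * (y * y)⁻¹) * (y * y) := by group
            _ = z * (y * y) := by rw [h2]
        rw [pow_succ, mul_assoc, h4, ← mul_assoc, ih, mul_assoc]
    have h5 := h3 s
    rw [hs] at h5
    apply hmove
    rw [h5]; group
  -- Step 3: the homomorphism
  let ψ : G → G := fun d => y * d * y⁻¹ * d⁻¹
  have hψB : ∀ d ∈ D, ψ d ∈ B := fun d hd => hB.comm_mem y hy d hd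
  have hψmul : ∀ a ∈ D, ∀ b ∈ D, ψ (a * b) = ψ a * ψ b := by
    intro a ha b hb
    have h1 : ψ b * a⁻¹ = a⁻¹ * ψ b := hB.comm _ (hψB b hb) _ (D.inv_mem ha)
    calc ψ (a * b) = (y * a * y⁻¹) * (ψ b * a⁻¹) := by
          simp only [ψ]; group
      _ = (y * a * y⁻¹) * (a⁻¹ * ψ b) := by rw [h1]
      _ = ψ a * ψ b := by
          simp only [ψ]; group
  have hψV : ∀ v ∈ B, ψ v ∈ V := by
    intro v hv
    have hstep : ∀ u ∈ B, (y * y) * u * (y * y)⁻¹ * u⁻¹ ∈ V := by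
      intro u hu
      rw [hW u hu]
      have hu₁ : ⁅x, u⁆ ∈ V := hL.comm_mem_V hB hVd x hx u hu
      have hu₂ : y⁻¹ * (⁅x, u⁆ * u) * y ∈ B := by
        have h2 : ⁅x, u⁆ * u ∈ B := B.mul_mem (hVd.le_B hu₁) hu
        have := hB.conj y⁻¹ hyinv _ h2
        simpa using this
      have e1 : (y * ⁅x, y⁻¹ * (⁅x, u⁆ * u) * y⁆ * y⁻¹) * (⁅x, u⁆ * u) * u⁻¹ =
          (y * ⁅x, y⁻¹ * (⁅x, u⁆ * u) * y⁆ * y⁻¹) * ⁅x, u⁆ := by group
      rw [e1]
      exact V.mul_mem (hVy _ (hL.comm_mem_V hB hVd x hx _ hu₂)) hu₁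
    have hwB : ∀ u ∈ B, (y * y) * u * (y * y)⁻¹ ∈ B := fun u hu =>
      hB.conj _ ((NN D).mul_mem hy hy) u hu
    have hpow : ∀ k : ℕ, (y * y) ^ k * v * ((y * y) ^ k)⁻¹ ∈ B ∧
        (y * y) ^ k * v * ((y * y) ^ k)⁻¹ * v⁻¹ ∈ V := by
      intro k
      induction k with
      | zero => simp [hv, V.one_mem]
      | succ k ih =>
        obtain ⟨h1, h2⟩ := ih
        have e1 : (y * y) ^ (k + 1) * v * ((y * y) ^ (k + 1))⁻¹ =
            (y * y) * ((y * y) ^ k * v * ((y * y) ^ k)⁻¹) * (y * y)⁻¹ := by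
          rw [pow_succ' (y * y) k, mul_inv_rev]
          simp only [mul_assoc]
        rw [e1]
        refine ⟨hwB _ h1, ?_⟩
        have e2 : (y * y) * ((y * y) ^ k * v * ((y * y) ^ k)⁻¹) * (y * y)⁻¹ * v⁻¹ =
            ((y * y) * ((y * y) ^ k * v * ((y * y) ^ k)⁻¹) * (y * y)⁻¹ *
              ((y * y) ^ k * v * ((y * y) ^ k)⁻¹)⁻¹) *
            ((y * y) ^ k * v * ((y * y) ^ k)⁻¹ * v⁻¹) := by group
        rw [e2]
        exact V.mul_mem (hstep _ h1) h2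
    have := (hpow s).2
    rw [hs] at this
    exact this
  let θ : ↥D →* G := MonoidHom.mk' (fun d => ψ (ψ d)) (by
    intro a b
    have h1 : ψ ((a * b : D) : G) = ψ a * ψ b := hψmul a a.2 b b.2
    show ψ (ψ ((a * b : D) : G)) = ψ (ψ a) * ψ (ψ b)
    rw [h1]
    exact hψmul _ (hB.le_D (hψB a a.2)) _ (hB.le_D (hψB b b.2)))
  have hθV : ∀ d : D, θ d ∈ V := fun d => hψV _ (hψB d d.2)
  have hθz : θ ⟨z, hVd.le_D hzV⟩ ≠ 1 := by
    show ψ (ψ z) ≠ 1
    exact hc'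
  refine ⟨?_, ?_⟩
  · intro d hd hdz
    apply hθz
    have e1 : (⟨z, hVd.le_D hzV⟩ : D) = ⟨d, hd⟩ * ⟨d, hd⟩ := Subtype.ext hdz.symm
    rw [e1, map_mul]
    exact hVd.sq _ (hθV _)
  · intro d₁ hd₁ d₂ hd₂ hdz
    apply hθz
    have e1 : (⟨z, hVd.le_D hzV⟩ : D) = ⁅(⟨d₁, hd₁⟩ : D), (⟨d₂, hd₂⟩ : D)⁆ := by
      apply Subtype.ext
      exact hdz.symm
    rw [e1, map_commutatorElement]
    exact commutatorElement_eq_one_iff_mul_comm.2 (hVab _ (hθV _) _ (hθV _))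

end Cfsg.Agent.Lib.InvNilp
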