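import Cfsg.Agent.Lib.InvNilp.Phi
import Cfsg.Agent.Lib.PGroups.Basic

/-!
# Normal 2-complements from invariant normalizers

Let `A` be a group of odd order acting on `G`, let `P` be an `A`-invariant Sylow 2-subgroup of `G` of
class at most two and `M ≥ P` such that odd elements of `M` centralize `P` and `M` is the normalizer of
every nontrivial `A`-invariant subgroup of `P` normalized by `P`.  Then `G` has a normal 2-complement.
-/

set_option autoImplicit false
set_option linter.unusedSectionVars false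

namespace Cfsg.Agent.Lib.InvNilp

open Subgroup Cfsg
open scoped commutatorElement Pointwise
open Cfsg.Agent.Lib.Coprime.Action Cfsg.Agent.Lib.SolvStruct.NilpMax
open Cfsg.Agent.Lib.Transfer.Frobenius
open Cfsg.Agent.Lib.PointStab.SylowJoin (NN isSylowIn_inf)
open Cfsg.Agent.Lib.Core.CoprimeMap (mem_normalizer_of_forall_conj_mem)

universe u v

variable {G : Type u} [Group G] [Finite G]

theorem hasNormalTwoComplement {A : Type v} [Group A] [Finite A] (hA : Odd (Nat.card A))
    (φ : A →* MulAut G) (P : Sylow 2 G) (hPA : ∀ a, ∀ x ∈ (P : Subgroup G), φ a x ∈ (P : Subgroup G))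
    (hcl : ∀ a ∈ (P : Subgroup G), ∀ b ∈ (P : Subgroup G), ∀ c ∈ (P : Subgroup G),
      ⁅a, b⁆ * c = c * ⁅a, b⁆)
    (M : Subgroup G) (hPM : (P : Subgroup G) ≤ M)
    (hcomm : ∀ x ∈ M, (orderOf x).Coprime 2 → ∀ t ∈ (P : Subgroup G), x * t = t * x)
    (hnorm : ∀ Y : Subgroup G, Y ≤ P → Y ≠ ⊥ → (P : Subgroup G) ≤ NN Y →
      (∀ a, ∀ y ∈ Y, φ a y ∈ Y) → NN Y = M) :
    HasNormalPComplement 2 G := by
  classical
  apply hasNormalPComplement_of_frobeniusCond
  by_contra hF
  have hex : ∃ D : Subgroup G, Bad 2 D := by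
    by_contra hne
    apply hF
    intro D hD g hg hco
    by_contra hgC
    exact hne ⟨D, hD, g, hg, hco, hgC⟩
  obtain ⟨D₀, hD₀⟩ := hex
  haveI : Nonempty {D : Subgroup G // Bad 2 D} := ⟨⟨D₀, hD₀⟩⟩
  obtain ⟨⟨D₁, hD₁⟩, hmax₁⟩ := Finite.exists_max (fun D : {D : Subgroup G // Bad 2 D} => Nat.card D.1)
  obtain ⟨R, hR⟩ := hD₁.1.exists_le_sylow
  obtain ⟨h, hh⟩ := MulAction.exists_smul_eq G R P
  set D : Subgroup G := MulAut.conj h • D₁ with hDdef
  have hD : Bad 2 D := hD₁.conj h
  have hcardD : Nat.card D = Nat.card D₁ := Cfsg.Agent.Lib.Solvable.Hall.card_conj_smul h D₁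
  have hmaxD : ∀ D' : Subgroup G, Bad 2 D' → Nat.card D' ≤ Nat.card D := by
    intro D' hD'
    rw [hcardD]
    exact hmax₁ ⟨D', hD'⟩
  have hDP : D ≤ P := by
    rw [← hh, Sylow.coe_subgroup_smul]
    exact Subgroup.pointwise_smul_le_pointwise_smul_iff.2 hR
  have hDne : D ≠ ⊥ := by
    intro h0
    obtain ⟨-, g, -, -, hgC⟩ := hD
    apply hgC
    rw [h0, Subgroup.mem_centralizer_iff]
    intro x hx
    have : x = 1 := by simpa using hx
    rw [this]; simp
  have hP1 : (P : Subgroup G) ≠ ⊥ := by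
    intro h0
    apply hDne
    rw [eq_bot_iff, ← h0]
    exact hDP
  have hNP : NN (P : Subgroup G) = M :=
    hnorm _ le_rfl hP1 Subgroup.le_normalizer hPA
  -- `Zo P`
  have hZo1 : Zo (P : Subgroup G) ≠ ⊥ := by
    have hnt : (⊤ : Subgroup ↥(P : Subgroup G)) ≠ ⊥ := by
      intro h0
      apply hP1
      rw [eq_bot_iff]
      intro x hx
      have h1 : (⟨x, hx⟩ : ↥(P : Subgroup G)) ∈ (⊥ : Subgroup ↥(P : Subgroup G)) :=
        h0 ▸ Subgroup.mem_top _
      rw [Subgroup.mem_bot] at h1
      exact Subgroup.mem_bot.2 (congrArg Subtype.val h1)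
    obtain ⟨z, -, hzc, hzo⟩ := Cfsg.Agent.Lib.PGroups.Basic.exists_central_orderOf_eq P.isPGroup' ⊤ hnt
    intro h0
    have hzZ : (z : G) ∈ Zo (P : Subgroup G) := by
      refine mem_Zo.2 ⟨z.2, ?_, ?_⟩
      · intro c hc
        have := (Subgroup.mem_center_iff.1 hzc) ⟨c, hc⟩
        exact (congrArg Subtype.val this).symm
      · have h1 : z ^ 2 = 1 := orderOf_dvd_iff_pow_eq_one.1 (by rw [hzo])
        have h2 := congrArg Subtype.val h1
        simpa [sq] using h2
    rw [h0, Subgroup.mem_bot] at hzZ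
    have h3 : z = 1 := Subtype.ext hzZ
    rw [h3, orderOf_one] at hzo
    exact absurd hzo (by norm_num)
  have hNZ : NN (Zo (P : Subgroup G)) = M := by
    refine hnorm _ (fun z hz => (mem_Zo.1 hz).1) hZo1 ?_ ?_
    · intro u hu
      refine mem_normalizer_of_forall_conj_mem ?_
      intro z hz
      have h1 := (mem_Zo.1 hz).2.1 u hu
      have h2 : u * z * u⁻¹ = z := by rw [← h1]; group
      rw [h2]
      exact hz
    · intro a z hz
      obtain ⟨hz1, hz2, hz3⟩ := mem_Zo.1 hz
      refine mem_Zo.2 ⟨hPA a z hz1, ?_, ?_⟩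
      · intro c hc
        have hc' : φ a⁻¹ c ∈ (P : Subgroup G) := hPA a⁻¹ c hc
        have h1 := hz2 _ hc'
        have h2 := congrArg (φ a) h1
        have h3 : φ a (φ a⁻¹ c) = c := by
          rw [← MulAut.mul_apply, ← map_mul]; simp
        rwa [map_mul, map_mul, h3] at h2
      · rw [← map_mul, hz3, map_one]
  have hdec : ∀ m ∈ M, ∃ a ∈ (P : Subgroup G), ∃ b ∈ M, (orderOf b).Coprime 2 ∧ m = a * b := by
    intro m hm
    obtain ⟨a, b, hab, hc, ⟨k, hk⟩, hb, ha', hb'⟩ :=
      Cfsg.Agent.Lib.Core.Residual.exists_pPart_pPrimePart 2 m (isOfFinOrder_of_finite m)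
    have haM : a ∈ M := (Subgroup.zpowers_le.2 hm) ha'
    have hbM : b ∈ M := (Subgroup.zpowers_le.2 hm) hb'
    refine ⟨a, ?_, b, hbM, hb, hab.symm⟩
    have hz : IsPGroup 2 (zpowers a) := by
      have h1 : orderOf a ∣ 2 ^ k := orderOf_dvd_of_pow_eq_one hk
      obtain ⟨j, -, hj⟩ := (Nat.dvd_prime_pow Nat.prime_two).1 h1
      exact IsPGroup.of_card (n := j) (by rw [Nat.card_zpowers, hj])
    have h1 := hz.inf_normalizer_sylow P
    have h2 : a ∈ zpowers a ⊓ normalizer (P : Set G) :=
      Subgroup.mem_inf.2 ⟨mem_zpowers a, by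
        have : a ∈ NN (P : Subgroup G) := hNP ▸ haM
        exact this⟩
    rw [h1] at h2
    exact (Subgroup.mem_inf.1 h2).2
  have hL : LocalHyp P M D := ⟨hcl, hdec, hcomm, hPM, hNP.le, hNZ.le, hD, hmaxD, hDP⟩
  obtain ⟨B, hB⟩ := hL.exists_BData
  obtain ⟨V, hVm⟩ := hB.exists_V
  have hVd := hB.vData hVm
  have hCV := hL.cent_le hVd
  obtain ⟨hidx, -⟩ := hL.frob_output hB hVd
  have hPhi := hL.phi hB hVd
  -- the images of `B`
  by_cases hall : ∀ a, ∀ b ∈ B, φ a b ∈ D
  · -- contradiction: `H` normalizes the join of the images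
    set X : Subgroup G := ⨆ a : A, B.map (φ a).toMonoidHom with hX
    have hXmem : ∀ a, ∀ b ∈ B, φ a b ∈ X := by
      intro a b hb
      have h1 : B.map (φ a).toMonoidHom ≤ X := le_iSup (fun a : A => B.map (φ a).toMonoidHom) a
      exact h1 ⟨b, hb, rfl⟩
    have hXD : X ≤ D := by
      refine iSup_le fun a => ?_
      rintro _ ⟨b, hb, rfl⟩
      exact hall a b hb
    have hBX : B ≤ X := by
      intro b hb
      have := hXmem 1 b hb
      simpa using this
    have hXA : ∀ c, ∀ y ∈ X, φ c y ∈ X := by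
      intro c y hy
      have hle : X ≤ X.comap (φ c).toMonoidHom := by
        refine iSup_le fun a => ?_
        rintro _ ⟨b, hb, rfl⟩
        show φ c (φ a b) ∈ X
        rw [← MulAut.mul_apply, ← map_mul]
        exact hXmem _ b hb
      exact hle hy
    have hXP : (P : Subgroup G) ≤ NN X := by
      intro u hu
      refine mem_normalizer_of_forall_conj_mem ?_
      have hle : X ≤ X.comap (MulAut.conj u).toMonoidHom := by
        refine iSup_le fun a => ?_
        rintro _ ⟨b, hb, rfl⟩
        show u * φ a b * u⁻¹ ∈ X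
        have hu' : φ a⁻¹ u ∈ (P : Subgroup G) := hPA a⁻¹ u hu
        have e1 : φ a (φ a⁻¹ u) = u := by
          rw [← MulAut.mul_apply, ← map_mul]; simp
        obtain ⟨u', hu'def⟩ : ∃ u', u' = φ a⁻¹ u := ⟨_, rfl⟩
        rw [← hu'def] at hu' e1
        have e2 : u * φ a b * u⁻¹ = φ a (u' * b * u'⁻¹) := by
          rw [map_mul, map_mul, map_inv, e1]
        rw [e2]
        exact hXmem a _ (hB.conj _ (hL.le_NN hu') b hb)
      intro y hy
      exact hle hy
    have hX1 : X ≠ ⊥ := by
      intro h0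
      apply hZo1
      rw [eq_bot_iff, ← h0]
      exact hVd.Zo_le.trans (hVd.le_B.trans hBX)
    have hNX := hnorm X (hXD.trans hDP) hX1 hXP hXA
    have hHM : NN D ≤ M := by
      intro h hh
      rw [← hNX]
      refine mem_normalizer_of_forall_conj_mem ?_
      intro y hy
      have e1 : h * y * h⁻¹ = (h * y * h⁻¹ * y⁻¹) * y := by group
      rw [e1]
      exact X.mul_mem (hBX (hB.comm_mem h hh y (hXD hy))) hy
    obtain ⟨-, g, hgN, hgo, hgC⟩ := hD
    exact hgC (hL.odd_mem_centralizer (hHM hgN) hgo)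
  · push Not at hall
    obtain ⟨a, b, hb, hbD⟩ := hall
    set f : G ≃* G := φ a with hf
    have hfP : ∀ x ∈ (P : Subgroup G), f x ∈ (P : Subgroup G) := hPA a
    have hfsymm : ∀ x, f.symm x = φ a⁻¹ x := by
      intro x
      rw [map_inv]
      rfl
    have hfP' : ∀ x ∈ (P : Subgroup G), f.symm x ∈ (P : Subgroup G) := by
      intro x hx
      rw [hfsymm]
      exact hPA _ x hx
    have hbP : b ∈ (P : Subgroup G) := hDP (hB.le_D hb)
    -- a witness outside `f(D)`
    have h1 : ∃ y ∈ V, ¬ (f b * y = y * f b) := by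
      by_contra hno
      push Not at hno
      exact hbD (hCV _ (hfP b hbP) hno)
    obtain ⟨y, hyV, hyc⟩ := h1
    have hyP : y ∈ (P : Subgroup G) := hDP (hVd.le_D hyV)
    have hyfD : f.symm y ∉ D := by
      intro hd
      apply hyc
      have h2 := hB.comm b hb _ hd
      have h3 := congrArg f h2
      simpa using h3
    -- a witness with image outside `D`
    have h2 : ∃ v ∈ V, ¬ (f.symm y * v = v * f.symm y) := by
      by_contra hno
      push Not at hno
      exact hyfD (hCV _ (hfP' y hyP) hno)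
    obtain ⟨v, hvV, hvc⟩ := h2
    have hvfD : f v ∉ D := by
      intro hd
      apply hvc
      have h3 := hVd.comm y hyV _ hd
      apply f.injective
      simpa using h3
    -- an element outside both
    have hu : ∃ u ∈ V, f.symm u ∉ D ∧ f u ∉ D := by
      by_cases h3 : f y ∈ D
      · by_cases h4 : f.symm v ∈ D
        · refine ⟨y * v, V.mul_mem hyV hvV, ?_, ?_⟩
          · rw [map_mul]
            intro h5
            apply hyfD
            have : f.symm y = (f.symm y * f.symm v) * (f.symm v)⁻¹ := by group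
            rw [this]
            exact D.mul_mem h5 (D.inv_mem h4)
          · rw [map_mul]
            intro h5
            apply hvfD
            have : f v = (f y)⁻¹ * (f y * f v) := by group
            rw [this]
            exact D.mul_mem (D.inv_mem h3) h5
        · exact ⟨v, hvV, h4, hvfD⟩
      · exact ⟨y, hyV, hyfD, h3⟩
    obtain ⟨u₀, hu₀, hu1, hu2⟩ := hu
    have hm : Odd (orderOf a) := Odd.of_dvd_nat hA (orderOf_dvd_natCard a)
    have hiter : ∀ k : ℕ, f^[k] u₀ = φ (a ^ k) u₀ := by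
      intro k
      induction k with
      | zero => simp
      | succ k ih =>
        rw [Function.iterate_succ_apply', ih, pow_succ', map_mul, MulAut.mul_apply]
    have hper : f^[orderOf a] u₀ = u₀ := by
      rw [hiter, pow_orderOf_eq_one]
      simp
    exact color_false (P : Subgroup G) D V f (orderOf a) hm hfP hfP' hVd.le_D hDP hcl hVd.comm hCV
      hidx hVd.sq hPhi u₀ hu₀ hu1 hu2 hper

end Cfsg.Agent.Lib.InvNilp
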